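import Cfsg.Agent.Lib.Spor.JFourType.Facts22.Checks
import Cfsg.Agent.Lib.Spor.OuterAut
import Cfsg.Agent.Lib.Spor.OctadGeom

/-!
# The pair stabilizer in the group of degree 24 and the meaning of the checks
-/

set_option autoImplicit false

namespace CfsgLib.Spor.JFourType

open Cfsg Subgroup MulAction
open scoped Pointwise

/-- The stabilizer of the pair of distinguished points. -/
def Gam : Subgroup (Equiv.Perm GolayPt) :=
  M24 ⊓ stabilizer (Equiv.Perm GolayPt) ({none, some 0} : Finset GolayPt)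

theorem mem_Gam {g : Equiv.Perm GolayPt} :
    g ∈ Gam ↔ g ∈ M24 ∧ ((g none = none ∧ g (some 0) = some 0) ∨ (g none = some 0 ∧ g (some 0) = none)) := by
  rw [Gam, mem_inf, mem_stabilizer_iff]
  refine and_congr_right fun _ => ?_
  constructor
  · intro h
    have key : ∀ p ∈ ({none, some 0} : Finset GolayPt), g p = none ∨ g p = some 0 := fun p hp => by
      have := Finset.smul_mem_smul_finset (a := g) hp
      rw [h, Finset.mem_insert, Finset.mem_singleton] at this
      exact this
    have hne : g none ≠ g (some 0) := fun e => Option.some_ne_none _ (g.injective e).symm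
    rcases key none (by simp) with h1 | h1 <;> rcases key (some 0) (by simp) with h2 | h2
    · exact absurd (h1.trans h2.symm) hne
    · exact Or.inl ⟨h1, h2⟩
    · exact Or.inr ⟨h1, h2⟩
    · exact absurd (h1.trans h2.symm) hne
  · rintro (⟨h1, h2⟩ | ⟨h1, h2⟩) <;>
      simp [Finset.smul_finset_insert, Finset.smul_finset_singleton, Equiv.Perm.smul_def, h1, h2, Finset.pair_comm]

theorem M22_le : Spor.M22 ≤ Gam := fun g hg => by
  obtain ⟨h, h1, h2⟩ := OuterAut.mem_M22.1 hg
  exact mem_Gam.2 ⟨h, Or.inl ⟨h1, h2⟩⟩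

theorem mem_M22_of_fix {g : Equiv.Perm GolayPt} (hg : g ∈ Gam) (h : g none = none) : g ∈ Spor.M22 := by
  obtain ⟨hM, h' | h'⟩ := mem_Gam.1 hg
  · exact OuterAut.mem_M22.2 ⟨hM, h'.1, h'.2⟩
  · rw [h] at h'; exact absurd h'.1.symm (Option.some_ne_none _)

/-- The simple subgroup. -/
def J22 : Subgroup ↥Gam := Spor.M22.subgroupOf Gam

theorem mem_J22 {x : ↥Gam} : x ∈ J22 ↔ (x : Equiv.Perm GolayPt) none = none := by
  rw [J22, mem_subgroupOf]
  exact ⟨fun h => (OuterAut.mem_M22.1 h).2.1, mem_M22_of_fix x.2⟩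

theorem J22_index : J22.index = 2 :=
  (two_point_index projInv_mem (show Cfsg.projInv none = some 0 from rfl)
    (show Cfsg.projInv (some 0) = none from rfl)).1

theorem card_J22 : Nat.card ↥J22 = 443520 := by
  rw [J22, Nat.card_congr (subgroupOfEquivOfLe M22_le).toEquiv, OuterAut.card_M22]

theorem card_Gam : Nat.card ↥Gam = 887040 := by
  have h := J22.card_mul_index
  rw [card_J22, J22_index] at h
  exact h.symm

/-! ### Codes -/

theorem mul_eq_of_twine {c x y : ℕ} (hc : isPermCode c = true) (hx : isPermCode x = true) (hy : isPermCode y = true)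
    (h : twine c x y = true) : permOf c * permOf x = permOf y * permOf c := by
  refine Equiv.ext fun p => ?_
  rw [← idxPt_ptIdx p, Equiv.Perm.mul_apply, Equiv.Perm.mul_apply, permOf_idxPt hx (ptIdx_lt p),
    permOf_idxPt hc (permFn_lt hx (ptIdx_lt p)), permOf_idxPt hc (ptIdx_lt p),
    permOf_idxPt hy (permFn_lt hc (ptIdx_lt p))]
  simp only [twine, List.all_eq_true, List.mem_range, beq_iff_eq] at h
  rw [h _ (ptIdx_lt p)]

theorem conj_eq_of_twine {c x y : ℕ} (hc : isPermCode c = true) (hx : isPermCode x = true) (hy : isPermCode y = true)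
    (h : twine c x y = true) : permOf c * permOf x * (permOf c)⁻¹ = permOf y := by
  rw [mul_eq_of_twine hc hx hy h, mul_inv_cancel_right]

theorem fix_iff {c i : ℕ} (hc : isPermCode c = true) (hi : i < 24) :
    permOf c (idxPt i) = idxPt i ↔ permFn c i = i := by
  rw [permOf_idxPt hc hi]
  exact ⟨fun h => by simpa [ptIdx_idxPt _ (permFn_lt hc hi), ptIdx_idxPt i hi] using congrArg ptIdx h,
    fun h => by rw [h]⟩

theorem none_fix {c : ℕ} (hc : isPermCode c = true) : permOf c none = none ↔ permFn c 23 = 23 := by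
  rw [show (none : GolayPt) = idxPt 23 from rfl]; exact fix_iff hc (by norm_num)

theorem m22_data {c : ℕ} (h : inM22 c = true) :
    isPermCode c = true ∧ isM24Code c = true ∧ permOf c ∈ Spor.M22 ∧ permOf c ∈ Gam := by
  refine ⟨(m22_sound h).1, ?_, (m22_sound h).2, M22_le (m22_sound h).2⟩
  simp only [inM22, inM23, Bool.and_eq_true] at h
  exact h.1.1

theorem el_data {i : ℕ} (hi : i < 256) :
    isPermCode (el i) = true ∧ permMulCode idPacked (el i) = el i ∧ permOf (el i) ∈ Gam ∧
      (mInv.testBit i = ((permFn (el i) 23 == 23) && sqCode (el i))) ∧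
      (mRR.testBit i = true → sqCode (el i) = true) ∧
      (mI.testBit i = true → mInv.testBit i = true) ∧ (mR.testBit i = true → mInv.testBit i = true) ∧
      mR.testBit i = (mRR.testBit i && (permFn (el i) 23 == 23)) := by
  have h := List.all_eq_true.1 mask_ok i (List.mem_range.2 hi)
  simp only [maskRow, Bool.and_eq_true] at h
  obtain ⟨⟨⟨⟨⟨hpair, hinv⟩, hsq⟩, h1⟩, h2⟩, h3⟩ := h
  obtain ⟨H, hHle, -, hHmem⟩ := listed_subgroup list_ok distinct_ok
  have hM : permOf (el i) ∈ M24 := hHle ((hHmem _).2 ⟨i, hi, rfl⟩)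
  have hn := (list_ok.2.2.2 i hi)
  simp only [listRow, Bool.and_eq_true, beq_iff_eq] at hn
  have hp : isPermCode (el i) = true := hn.1
  refine ⟨hp, hn.2.1, ?_, beq_iff_eq.1 hinv, fun e => by simpa [e] using hsq, fun e => by simpa [e] using h1,
    fun e => by simpa [e] using h2, (beq_iff_eq.1 h3).symm⟩
  refine mem_Gam.2 ⟨hM, ?_⟩
  simp only [Bool.or_eq_true, Bool.and_eq_true, beq_iff_eq] at hpair
  rw [show (none : GolayPt) = idxPt 23 from rfl, OuterAut.zero_eq, permOf_idxPt hp (by norm_num),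
    permOf_idxPt hp (by norm_num)]
  rcases hpair with ⟨e1, e2⟩ | ⟨e1, e2⟩
  · exact Or.inl ⟨by rw [e1], by rw [e2]⟩
  · exact Or.inr ⟨by rw [e1], by rw [e2]⟩

theorem inner_of_invBit {i : ℕ} (hi : i < 256) (h : mInv.testBit i = true) :
    permOf (el i) ∈ Spor.M22 ∧ sqCode (el i) = true := by
  obtain ⟨hp, -, hG, hb, -⟩ := el_data hi
  rw [h] at hb
  simp only [Bool.true_eq, Bool.and_eq_true, beq_iff_eq] at hb
  exact ⟨mem_M22_of_fix hG ((none_fix hp).2 hb.1), hb.2⟩

theorem el_inj {i j : ℕ} (hi : i < 256) (hj : j < 256) (h : permOf (el i) = permOf (el j)) : i = j :=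
  injOn_of_distinctCheck distinct_ok (Set.mem_Iio.2 hi) (Set.mem_Iio.2 hj)
    (permOf_inj_normal (el_data hi).1 (el_data hj).1 (el_data hi).2.1 (el_data hj).2.1 h)

theorem sq_of_sqCode {c : ℕ} (hc : isPermCode c = true) (h : sqCode c = true) : permOf c * permOf c = 1 := by
  refine Equiv.ext fun p => ?_
  rw [← idxPt_ptIdx p, Equiv.Perm.mul_apply, permOf_idxPt hc (ptIdx_lt p),
    permOf_idxPt hc (permFn_lt hc (ptIdx_lt p)), Equiv.Perm.one_apply]
  simp only [sqCode, List.all_eq_true, List.mem_range, beq_iff_eq] at h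
  rw [h _ (ptIdx_lt p)]

theorem cmask_iff {i j : ℕ} (hi : i < 256) (hj : j < 256) :
    (cmask i).testBit j = true ↔ permOf (el i) * permOf (el j) = permOf (el j) * permOf (el i) := by
  have all : ∀ k < 256, commRow k = true := by
    intro k hk
    have row : ∀ a, ((List.range' a 64).all commRow = true) → a ≤ k → k < a + 64 → commRow k = true :=
      fun a h h1 h2 => List.all_eq_true.1 h k (List.mem_range'_1.2 ⟨h1, h2⟩)
    rcases Nat.lt_or_ge k 64 with h | h
    · exact row 0 comm_ok0 (by omega) (by omega)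
    rcases Nat.lt_or_ge k 128 with h' | h'
    · exact row 64 comm_ok1 (by omega) (by omega)
    rcases Nat.lt_or_ge k 192 with h'' | h''
    · exact row 128 comm_ok2 (by omega) (by omega)
    · exact row 192 comm_ok3 (by omega) (by omega)
  have base : ∀ a b, a < 256 → b < 256 → a ≤ b → (cmask a).testBit b = commCodes (el a) (el b) := by
    intro a b ha hb hab
    have h := List.all_eq_true.1 (all a ha) b (List.mem_range.2 hb)
    simpa [hab, Nat.not_lt.2 hab] using h
  have hcc : ∀ a b, a < 256 → b < 256 → (commCodes (el a) (el b) = true ↔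
      permOf (el a) * permOf (el b) = permOf (el b) * permOf (el a)) := fun a b ha hb =>
    ⟨eq_mul_of_commCodes (el_data ha).1 (el_data hb).1, commCodes_of (el_data ha).1 (el_data hb).1⟩
  rcases Nat.lt_or_ge j i with hji | hij
  · have h := List.all_eq_true.1 (all i hi) j (List.mem_range.2 hj)
    have e : (cmask j).testBit i = (cmask i).testBit j := by simpa [hji, Nat.not_le.2 hji] using h
    rw [← e, base j i hj hi hji.le, hcc j i hj hi]
    exact eq_comm
  · rw [base i j hi hj hij, hcc i j hi hj]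

/-! ### The listed subgroups -/

/-- The Sylow 2-subgroup. -/
noncomputable def SY : Subgroup (Equiv.Perm GolayPt) := (listed_subgroup list_ok distinct_ok).choose

theorem mem_SY {g : Equiv.Perm GolayPt} : g ∈ SY ↔ ∃ i < 256, permOf (el i) = g :=
  (listed_subgroup list_ok distinct_ok).choose_spec.2.2 g

theorem card_SY : Nat.card ↥SY = 256 := (listed_subgroup list_ok distinct_ok).choose_spec.2.1

theorem SY_le : SY ≤ Gam := fun g hg => by
  obtain ⟨i, hi, rfl⟩ := mem_SY.1 hg
  exact (el_data hi).2.2.1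

/-- The fixed octad. -/
def O8 : Finset GolayPt := pts mO

theorem O8_octad : O8 ∈ octads := OuterAut.pts_octad octad_ok.1 octad_ok.2.1

/-- The pointwise stabilizer of the octad. -/
def I24 : Subgroup (Equiv.Perm GolayPt) := ptwise O8

theorem card_I24 : Nat.card ↥I24 = 16 := (ptwise_facts O8_octad).1

theorem I24_le : I24 ≤ Spor.M22 := fun g hg => by
  obtain ⟨hM, hf⟩ := mem_ptwise.1 hg
  refine OuterAut.mem_M22.2 ⟨hM, hf _ ?_, hf _ ?_⟩
  · rw [O8, OuterAut.none_eq, OuterAut.mem_pts_idx (by norm_num)]; exact octad_ok.2.2.2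
  · rw [O8, OuterAut.zero_eq, OuterAut.mem_pts_idx (by norm_num)]; exact octad_ok.2.2.1

theorem card_filter_range (n : ℕ) (p : ℕ → Bool) :
    (List.range n).countP p = ((Finset.range n).filter fun i => p i = true).card := by
  simp [List.countP_eq_length_filter, Finset.card, Finset.filter, Finset.range, Multiset.range]

/-- The indices of a mask. -/
def bitSet (m : ℕ) : Finset ℕ := (Finset.range 256).filter fun i => m.testBit i = true

theorem mem_bitSet {m i : ℕ} : i ∈ bitSet m ↔ i < 256 ∧ m.testBit i = true := by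
  simp [bitSet]

theorem card_bitSet (m : ℕ) : (bitSet m).card = pop 256 m := (card_filter_range 256 _).symm

theorem ncard_elts (m : ℕ) : ((fun i => permOf (el i)) '' (bitSet m : Set ℕ)).ncard = pop 256 m := by
  rw [Set.InjOn.ncard_image fun a ha b hb => el_inj (mem_bitSet.1 ha).1 (mem_bitSet.1 hb).1,
    Set.ncard_coe_finset, card_bitSet]

theorem mem_I24 {g : Equiv.Perm GolayPt} : g ∈ I24 ↔ ∃ i < 256, mI.testBit i = true ∧ permOf (el i) = g := by
  have hsub : ((fun i => permOf (el i)) '' (bitSet mI : Set ℕ)) ⊆ (I24 : Set (Equiv.Perm GolayPt)) := by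
    rintro _ ⟨i, hi, rfl⟩
    obtain ⟨hi, hb⟩ := mem_bitSet.1 hi
    have h := List.all_eq_true.1 group_ok i (List.mem_range.2 hi)
    simp only [groupRow, hb, Bool.not_true, Bool.false_or, Bool.and_eq_true, List.all_eq_true, List.mem_range] at h
    refine mem_ptwise.2 ⟨(mem_Gam.1 (el_data hi).2.2.1).1, fun p hp => ?_⟩
    rw [← idxPt_ptIdx p]
    refine (fix_iff (el_data hi).1 (ptIdx_lt p)).2 ?_
    simpa [mem_pts.1 hp] using h.1 _ (ptIdx_lt p)
  have e : ((fun i => permOf (el i)) '' (bitSet mI : Set ℕ)) = (I24 : Set (Equiv.Perm GolayPt)) := by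
    refine Set.eq_of_subset_of_ncard_le hsub ?_ (Set.toFinite _)
    rw [ncard_elts, pop_ok.1, ← Nat.card_coe_set_eq, SetLike.coe_sort_coe, card_I24]
  rw [← SetLike.mem_coe, ← e]
  simp only [Set.mem_image, Finset.mem_coe, mem_bitSet, and_assoc]

theorem I24_le_SY : I24 ≤ SY := fun g hg => by
  obtain ⟨i, hi, -, e⟩ := mem_I24.1 hg
  exact mem_SY.2 ⟨i, hi, e⟩

/-- The abelian subgroup of order 32. -/
noncomputable def RR24 : Subgroup (Equiv.Perm GolayPt) :=
  SY ⊓ centralizer ((fun i => permOf (el i)) '' (bitSet mRR : Set ℕ))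

theorem mem_RR24 {g : Equiv.Perm GolayPt} : g ∈ RR24 ↔ ∃ i < 256, mRR.testBit i = true ∧ permOf (el i) = g := by
  have hrow : ∀ i < 256, (mRR.testBit i = true ↔ cmask i &&& mRR = mRR) := fun i hi => by
    have h := List.all_eq_true.1 group_ok i (List.mem_range.2 hi)
    simp only [groupRow, Bool.and_eq_true, beq_iff_eq] at h
    rw [h.2, beq_iff_eq]
  have hcent : ∀ i < 256, (cmask i &&& mRR = mRR ↔ ∀ j ∈ bitSet mRR,
      permOf (el j) * permOf (el i) = permOf (el i) * permOf (el j)) := by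
    intro i hi
    constructor
    · intro h j hj
      obtain ⟨hj, hb⟩ := mem_bitSet.1 hj
      rw [← h, Nat.testBit_and, Bool.and_eq_true] at hb
      exact ((cmask_iff hi hj).1 hb.1).symm
    · intro h
      refine Nat.eq_of_testBit_eq fun k => ?_
      rw [Nat.testBit_and]
      cases hk : mRR.testBit k
      · simp
      · have hk256 : k < 256 := by
          by_contra hc
          have := (Nat.testBit_eq_false_of_lt ((show mRR < 2 ^ 256 by decide +kernel).trans_le
            (Nat.pow_le_pow_right (by norm_num) (Nat.not_lt.1 hc))))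
          rw [hk] at this; exact Bool.noConfusion this
        simp [(cmask_iff hi hk256).2 (h k (mem_bitSet.2 ⟨hk256, hk⟩)).symm]
  rw [RR24, mem_inf, mem_SY, mem_centralizer_iff]
  constructor
  · rintro ⟨⟨i, hi, rfl⟩, hc⟩
    exact ⟨i, hi, (hrow i hi).2 ((hcent i hi).2 fun j hj => hc _ ⟨j, hj, rfl⟩), rfl⟩
  · rintro ⟨i, hi, hb, rfl⟩
    exact ⟨⟨i, hi, rfl⟩, by rintro _ ⟨j, hj, rfl⟩; exact (hcent i hi).1 ((hrow i hi).1 hb) j hj⟩

theorem card_RR24 : Nat.card ↥RR24 = 32 := by
  have e : (RR24 : Set (Equiv.Perm GolayPt)) = (fun i => permOf (el i)) '' (bitSet mRR : Set ℕ) := by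
    ext g
    simp only [SetLike.mem_coe, mem_RR24, Set.mem_image, Finset.mem_coe, mem_bitSet, and_assoc]
  rw [← SetLike.coe_sort_coe, Nat.card_coe_set_eq, e, ncard_elts, pop_ok.2.2.1]

/-- The second subgroup of order sixteen. -/
noncomputable def R24 : Subgroup (Equiv.Perm GolayPt) := RR24 ⊓ Spor.M22

theorem mem_R24 {g : Equiv.Perm GolayPt} : g ∈ R24 ↔ ∃ i < 256, mR.testBit i = true ∧ permOf (el i) = g := by
  rw [R24, mem_inf, mem_RR24]
  constructor
  · rintro ⟨⟨i, hi, hb, rfl⟩, h22⟩
    obtain ⟨hp, -, -, -, -, -, -, hR⟩ := el_data hi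
    refine ⟨i, hi, ?_, rfl⟩
    rw [hR, hb, Bool.true_and, beq_iff_eq]
    exact (none_fix hp).1 (OuterAut.mem_M22.1 h22).2.1
  · rintro ⟨i, hi, hb, rfl⟩
    obtain ⟨-, -, -, -, -, -, hinv, hR⟩ := el_data hi
    refine ⟨⟨i, hi, ?_, rfl⟩, (inner_of_invBit hi (hinv hb)).1⟩
    rw [hb] at hR
    simp only [Bool.true_eq, Bool.and_eq_true] at hR
    exact hR.1

theorem card_R24 : Nat.card ↥R24 = 16 := by
  have e : (R24 : Set (Equiv.Perm GolayPt)) = (fun i => permOf (el i)) '' (bitSet mR : Set ℕ) := by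
    ext g
    simp only [SetLike.mem_coe, mem_R24, Set.mem_image, Finset.mem_coe, mem_bitSet, and_assoc]
  rw [← SetLike.coe_sort_coe, Nat.card_coe_set_eq, e, ncard_elts, pop_ok.2.1]

end CfsgLib.Spor.JFourType
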