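import Cfsg.Agent.Lib.Spor.JFourType.Checks
import Cfsg.Agent.Lib.Spor.SylowTwoMathieu

/-!
# Further checks on the listed elements: closures, witnesses and centralizers
-/

set_option autoImplicit false
set_option maxRecDepth 20000

namespace CfsgLib.Spor.JFourType

open Cfsg

/-- The octad fixed by the first subgroup. -/
def mO : ℕ := 9607201

/-- Two codes are intertwined by a third. -/
def twine (c x y : ℕ) : Bool := (List.range 24).all fun q => permFn c (permFn x q) == permFn y (permFn c q)

/-- The code maps the octad to itself. -/
def keepsO (c : ℕ) : Bool := permMask c mO == mO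

/-- The conjugate of `x` by `c` fixes the octad pointwise. -/
def intoI (c x : ℕ) : Bool := (List.range 24).all fun q => !(mO.testBit (permFn c q)) || (permFn x q == q)

/-- Members of the first mask fix the octad, members of the second are the commutant of the second. -/
def groupRow (i : ℕ) : Bool :=
  (!(mI.testBit i) || (List.range 24).all fun q => !(mO.testBit q) || (permFn (el i) q == q)) &&
    (mRR.testBit i == (cmask i &&& mRR == mRR))

theorem octad_ok : codeTest mO = true ∧ pop 24 mO = 8 ∧ mO.testBit 0 = true ∧ mO.testBit 23 = true := by
  decide +kernel

theorem group_ok : (List.range 256).all groupRow = true := by decide +kernel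

/-- The index of an element outside the simple subgroup normalizing the first subgroup. -/
def outI : ℕ := 5

/-- The index of an element of the larger abelian subgroup outside the simple subgroup. -/
def outR : ℕ := 19

theorem outer_ok : (permFn (el outI) 23 != 23) = true ∧ keepsO (el outI) = true ∧
    (permFn (el outR) 23 != 23) = true ∧ mRR.testBit outR = true := by decide +kernel

/-- An involution outside the first subgroup is carried into it. -/
def convRow (i : ℕ) : Bool :=
  !(mInv.testBit i) || mI.testBit i || convI.any fun q => q.1 == i && (inM22 q.2 && intoI q.2 (el i))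

theorem conv_ok : (List.range 256).all convRow = true := by decide +kernel

/-- The base involution is moved to this one by a normalizing element. -/
def transRow (i : ℕ) : Bool :=
  !(mI.testBit i) || (i == 0) || transI.any fun c => twine c (el baseI) (el i) && (inM22 c && keepsO c)

theorem trans_ok : mI.testBit baseI = true ∧ (List.range 256).all transRow = true := by decide +kernel

/-- The element `a^i * b^j`. -/
def threeElt (v : ℕ × ℕ) : ℕ := permMulCode (powCode threeA v.1) (powCode threeB v.2)

/-- The exponents of the group of order nine. -/
def threeExps : List (ℕ × ℕ) := [(0, 0), (0, 1), (0, 2), (1, 0), (1, 1), (1, 2), (2, 0), (2, 1), (2, 2)]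

/-- The code normalizes the group of order nine. -/
def normThree (c : ℕ) : Bool :=
  (threeExps.any fun v => twine c threeA (threeElt v)) && (threeExps.any fun v => twine c threeB (threeElt v))

theorem three_ok : inM22 threeA = true ∧ inM22 threeB = true ∧ inM22 threeN = true ∧
    keepsO threeA = true ∧ keepsO threeB = true ∧
    powCode threeA 3 = idPacked ∧ powCode threeB 3 = idPacked ∧
    powCode threeA 1 ≠ idPacked ∧ powCode threeB 1 ≠ idPacked ∧
    commCodes threeA threeB = true ∧
    (List.range 3).all (fun i => powCode threeA i != powCode threeB 1) = true ∧
    twine threeN threeA threeB = true ∧ twine threeN threeB (powCode threeA 2) = true := by decide +kernel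

theorem threeFix_ok : mI.testBit threeFix.1 = true ∧ mI.testBit threeFix.2 = true ∧
    threeFix.1 ≠ 0 ∧ threeFix.2 ≠ 0 ∧ threeFix.1 ≠ threeFix.2 ∧
    threeFix.1 < 256 ∧ threeFix.2 < 256 ∧
    commCodes (el threeFix.1) threeA = true ∧ commCodes (el threeFix.2) threeA = true := by decide +kernel

/-- A normalizing element moves the first element of order three here. -/
def orbitRow (v : ℕ × ℕ) : Bool :=
  (v == (0, 0)) || threeOrbit.any fun c =>
    twine c threeA (threeElt v) && (inM22 c && normThree c)

theorem orbit_ok : threeExps.all orbitRow = true := by decide +kernel

/-- Base images possible for an element of the simple subgroup commuting with `a`. -/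
def okPairs (pairs : List (ℕ × ℕ × ℕ)) (a : ℕ) (l : List ℕ) : Bool :=
  (!(Nat.ble 1 l.length) || (l.getD 0 0 == 23)) && ((!(Nat.ble 2 l.length) || (l.getD 1 0 == 0)) &&
    pairs.all fun q => !(Nat.ble (q.2.1 + 1) l.length && Nat.ble (q.2.2 + 1) l.length) ||
      (permFn (powCode a q.1) (l.getD q.2.1 0) == l.getD q.2.2 0))

/-- Elements of the simple subgroup commuting with `a`. -/
def centList (pairs : List (ℕ × ℕ × ℕ)) (a : ℕ) : List ℕ :=
  (chainCands (okPairs pairs a) 7).filter fun c => commCodes c a

/-- The pairs are related by powers of `a`. -/
def pairsCheck (pairs : List (ℕ × ℕ × ℕ)) (a : ℕ) : Bool :=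
  pairs.all fun q => decide (q.2.1 < 7) && (decide (q.2.2 < 7) &&
    (permFn (powCode a q.1) (basePts.getD q.2.1 0) == basePts.getD q.2.2 0))

/-- Distinct normalized codes. -/
def cleanList (l : List ℕ) : Bool := decide l.Nodup && l.all fun c => permMulCode idPacked c == c

theorem cent3_ok : (centList threePairs threeA).length = 36 ∧ cleanList (centList threePairs threeA) = true ∧
    pairsCheck threePairs threeA = true := by decide +kernel

theorem cent5_ok : (centList fivePairs fiveI).length = 5 ∧ cleanList (centList fivePairs fiveI) = true ∧
    pairsCheck fivePairs fiveI = true := by decide +kernel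

/-- The normalizer of the group of order nine. -/
def normList : List ℕ :=
  threeOrbit.flatMap fun c => ((centList threePairs threeA).filter normThree).map fun x =>
    permMulCode idPacked (permMulCode c x)

theorem norm_ok : normList.length = 72 ∧ cleanList normList = true ∧
    threeOrbit.all (fun c => inM22 c && normThree c) = true := by decide +kernel

/-- The code carries every member of the second subgroup to a member. -/
def normR (c : ℕ) : Bool :=
  (List.range 256).all fun i => !(mR.testBit i) || (List.range 256).any fun j => mR.testBit j && twine c (el i) (el j)

theorem five_ok : inM22 fiveI = true ∧ keepsO fiveI = true ∧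
    powCode fiveI 5 = idPacked ∧ powCode fiveI 1 ≠ idPacked ∧
    inM22 fiveR = true ∧ inM22 fiveN = true ∧ normR fiveR = true ∧ normR fiveN = true ∧
    powCode fiveR 5 = idPacked ∧ powCode fiveR 1 ≠ idPacked ∧
    twine fiveN fiveR (powCode fiveR 2) = true := by decide +kernel

end CfsgLib.Spor.JFourType
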