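import Cfsg.Agent.Lib.Spor.JFourType.Facts22.Group
import Cfsg.Agent.Lib.Spor.JFourType.FactsAux

/-!
# The subgroups of order 16 and 32 and the involutions
-/

set_option autoImplicit false

namespace CfsgLib.Spor.JFourType

open Cfsg Subgroup MulAction
open scoped Pointwise

/-- The first subgroup of order sixteen. -/
def I22 : Subgroup ↥Gam := I24.subgroupOf Gam

/-- The second subgroup of order sixteen. -/
noncomputable def R22 : Subgroup ↥Gam := R24.subgroupOf Gam

/-- The abelian subgroup of order 32. -/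
noncomputable def RR22 : Subgroup ↥Gam := RR24.subgroupOf Gam

/-- The listed Sylow subgroup inside the pair stabilizer. -/
noncomputable def SY22 : Subgroup ↥Gam := SY.subgroupOf Gam

theorem RR24_le : RR24 ≤ Gam := (inf_le_left : RR24 ≤ SY).trans SY_le

theorem I22_le : I22 ≤ J22 := fun x hx => mem_subgroupOf.2 (I24_le (mem_subgroupOf.1 hx))

theorem R22_le : R22 ≤ J22 := fun x hx => mem_subgroupOf.2 (mem_inf.1 (mem_subgroupOf.1 hx : (x : Equiv.Perm GolayPt) ∈ RR24 ⊓ Spor.M22)).2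

theorem card_I22 : Nat.card ↥I22 = 16 := by
  rw [I22, Nat.card_congr (subgroupOfEquivOfLe (I24_le.trans M22_le)).toEquiv, card_I24]

theorem card_R22 : Nat.card ↥R22 = 16 := by
  rw [R22, Nat.card_congr (subgroupOfEquivOfLe (show R24 ≤ Gam from inf_le_left.trans RR24_le)).toEquiv, card_R24]

theorem card_RR22 : Nat.card ↥RR22 = 32 := by
  rw [RR22, Nat.card_congr (subgroupOfEquivOfLe RR24_le).toEquiv, card_RR24]

theorem RR22_inf : RR22 ⊓ J22 = R22 := by
  ext x; simp only [RR22, J22, R22, R24, mem_inf, mem_subgroupOf]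

theorem RR22_comm {x y : ↥Gam} (hx : x ∈ RR22) (hy : y ∈ RR22) : x * y = y * x := by
  obtain ⟨hxs, hxc⟩ := mem_inf.1 (mem_subgroupOf.1 hx)
  obtain ⟨j, hj, hb, e⟩ := mem_RR24.1 (mem_subgroupOf.1 hy)
  exact Subtype.ext ((mem_centralizer_iff.1 hxc _ ⟨j, mem_bitSet.2 ⟨hj, hb⟩, e⟩).symm)

theorem RR22_sq {x : ↥Gam} (hx : x ∈ RR22) : x * x = 1 := by
  obtain ⟨i, hi, hb, e⟩ := mem_RR24.1 (mem_subgroupOf.1 hx)
  refine Subtype.ext ?_
  rw [coe_mul, coe_one, ← e]
  exact sq_of_sqCode (el_data hi).1 ((el_data hi).2.2.2.2.1 hb)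

theorem ea_of {K : Subgroup ↥Gam} (hc : ∀ x ∈ K, ∀ y ∈ K, x * y = y * x) (hs : ∀ x ∈ K, x * x = 1) :
    Cfsg.IsElementaryAbelian 2 K :=
  ⟨⟨⟨fun a b => Subtype.ext (hc _ a.2 _ b.2)⟩⟩, fun a ha => by rw [pow_two]; exact hs a ha⟩

theorem R22_ea : Cfsg.IsElementaryAbelian 2 R22 := by
  refine ea_of (fun x hx y hy => ?_) fun x hx => ?_
  · rw [← RR22_inf] at hx hy
    exact RR22_comm (mem_inf.1 hx).1 (mem_inf.1 hy).1
  · rw [← RR22_inf] at hx
    exact RR22_sq (mem_inf.1 hx).1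

theorem I22_ea : Cfsg.IsElementaryAbelian 2 I22 := by
  have hs : ∀ x ∈ I22, x * x = 1 := fun x hx => Subtype.ext ((ptwise_facts O8_octad).2 _ (mem_subgroupOf.1 hx))
  refine ea_of (fun x hx y hy => ?_) hs
  calc x * y = (x * y)⁻¹ := eq_inv_of_mul_eq_one_left (hs _ (mul_mem hx hy))
    _ = y * x := by rw [mul_inv_rev, ← eq_inv_of_mul_eq_one_left (hs x hx), ← eq_inv_of_mul_eq_one_left (hs y hy)]

theorem card_SY22 : Nat.card ↥SY22 = 2 ^ (Nat.card ↥Gam).factorization 2 := by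
  haveI : Fact (Nat.Prime 2) := ⟨Nat.prime_two⟩
  rw [SY22, Nat.card_congr (subgroupOfEquivOfLe SY_le).toEquiv, card_SY, card_Gam,
    show (887040 : ℕ) = 2 ^ 8 * 3465 by norm_num, Nat.factorization_mul (by norm_num) (by norm_num),
    Finsupp.add_apply, Nat.Prime.factorization_pow Nat.prime_two, Finsupp.single_eq_same,
    Nat.factorization_eq_zero_of_not_dvd (show ¬ (2 ∣ 3465) by norm_num)]
  norm_num

theorem exists_conj_le {K : Subgroup ↥Gam} (hK : IsPGroup 2 ↥K) :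
    ∃ g : ↥Gam, ∀ x ∈ K, g * x * g⁻¹ ∈ SY22 := by
  haveI : Fact (Nat.Prime 2) := ⟨Nat.prime_two⟩
  obtain ⟨Q, hQ⟩ := hK.exists_le_sylow
  obtain ⟨g, hg⟩ := MulAction.exists_smul_eq ↥Gam Q (Sylow.ofCard SY22 card_SY22)
  refine ⟨g, fun x hx => ?_⟩
  have h1 : g * x * g⁻¹ ∈ ((g • Q : Sylow 2 ↥Gam) : Subgroup ↥Gam) := by
    rw [Sylow.coe_subgroup_smul, mem_pointwise_smul_iff_inv_smul_mem]
    simpa [MulAut.smul_def, mul_assoc] using hQ hx
  rwa [hg, Sylow.coe_ofCard] at h1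

theorem isConjugateBy_map {A : Type*} [Group A] (g : A) (K : Subgroup A) :
    IsConjugateBy g K (K.map (MulAut.conj g).toMonoidHom) := fun x => by
  rw [mem_map_equiv, MulAut.conj_symm_apply]

/-- Some element outside the simple subgroup normalizes the first subgroup. -/
noncomputable def outerI : ↥Gam := ⟨permOf (el outI), (el_data (show outI < 256 by decide)).2.2.1⟩

theorem keepsO_smul {c : ℕ} (hc : isPermCode c = true) (h : keepsO c = true) : permOf c • O8 = O8 := by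
  rw [O8, smul_pts hc]
  rw [keepsO, beq_iff_eq] at h
  rw [h]

theorem normalizes_I22 {x : ↥Gam} (h : (x : Equiv.Perm GolayPt) • O8 = O8) : IsConjugateBy x I22 I22 := fun y => by
  rw [I22, mem_subgroupOf, mem_subgroupOf, coe_mul, coe_mul, coe_inv]
  have e : I24 = I24.map (MulAut.conj (x : Equiv.Perm GolayPt)).toMonoidHom := by
    conv_lhs => rw [I24, ← h, ptwise_smul _ (mem_Gam.1 x.2).1]
    rfl
  conv_lhs => rw [e]
  rw [mem_map_equiv, MulAut.conj_symm_apply]

theorem outer_notMem {c : ℕ} (hc : c < 256) (h : (permFn (el c) 23 != 23) = true) :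
    (⟨permOf (el c), (el_data hc).2.2.1⟩ : ↥Gam) ∉ J22 := fun hJ => by
  rw [bne_iff_ne] at h
  exact h ((none_fix (el_data hc).1).1 (mem_J22.1 hJ))

theorem exists_inner {K L : Subgroup ↥Gam} {o g : ↥Gam} (ho : o ∉ J22) (hoK : IsConjugateBy o K K)
    (h : IsConjugateBy g K L) : ∃ k ∈ J22, IsConjugateBy k K L := by
  by_cases hg : g ∈ J22
  · exact ⟨g, hg, h⟩
  · exact ⟨g * o, (mul_mem_iff_of_index_two J22_index).2 (iff_of_false hg ho), hoK.trans h⟩

theorem exists_inner_I {L : Subgroup ↥Gam} {g : ↥Gam} (h : IsConjugateBy g I22 L) :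
    ∃ k ∈ J22, IsConjugateBy k I22 L :=
  exists_inner (o := outerI) (outer_notMem (show outI < 256 by decide) outer_ok.1)
    (normalizes_I22 (keepsO_smul (el_data (show outI < 256 by decide)).1 outer_ok.2.1)) h

/-- An element of the larger abelian subgroup outside the simple subgroup. -/
noncomputable def outerR : ↥Gam := ⟨permOf (el outR), (el_data (show outR < 256 by decide)).2.2.1⟩

theorem exists_inner_R {L : Subgroup ↥Gam} {g : ↥Gam} (h : IsConjugateBy g R22 L) :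
    ∃ k ∈ J22, IsConjugateBy k R22 L := by
  have hmem : outerR ∈ RR22 :=
    mem_subgroupOf.2 (mem_RR24.2 ⟨outR, by decide, outer_ok.2.2.2, rfl⟩)
  refine exists_inner (o := outerR) (outer_notMem (show outR < 256 by decide) outer_ok.2.2.1) (fun x => ?_) h
  have fix : ∀ y ∈ R22, outerR⁻¹ * y * outerR = y ∧ outerR * y * outerR⁻¹ = y := fun y hy => by
    rw [← RR22_inf] at hy
    have e := RR22_comm hmem (mem_inf.1 hy).1
    exact ⟨by rw [mul_assoc, ← e, inv_mul_cancel_left], by rw [e, mul_inv_cancel_right]⟩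
  constructor
  · intro hx; rw [(fix x hx).1]; exact hx
  · intro hx
    have := (fix _ hx).2
    simp only [mul_assoc, mul_inv_cancel, mul_one, mul_inv_cancel_left] at this
    rw [this]
    simpa [mul_assoc] using hx

/-! ### Counting inside the Sylow subgroup -/

open Classical in
/-- The indices of the members of a subgroup. -/
noncomputable def idxSet (K : Subgroup ↥Gam) : Finset ℕ :=
  (Finset.range 256).filter fun i => permOf (el i) ∈ K.map Gam.subtype

theorem mem_idxSet {K : Subgroup ↥Gam} {i : ℕ} :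
    i ∈ idxSet K ↔ i < 256 ∧ ∃ x ∈ K, (x : Equiv.Perm GolayPt) = permOf (el i) := by
  classical
  simp [idxSet, mem_map]

theorem exists_idx {K : Subgroup ↥Gam} (hK : K ≤ SY22) {x : ↥Gam} (hx : x ∈ K) :
    ∃ i ∈ idxSet K, permOf (el i) = x := by
  obtain ⟨i, hi, e⟩ := mem_SY.1 (mem_subgroupOf.1 (hK hx))
  exact ⟨i, mem_idxSet.2 ⟨hi, x, hx, e.symm⟩, e⟩

theorem card_idxSet {K : Subgroup ↥Gam} (hK : K ≤ SY22) : (idxSet K).card = Nat.card ↥K := by
  have e : (fun i => permOf (el i)) '' (idxSet K : Set ℕ) = Subtype.val '' (K : Set ↥Gam) := by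
    ext g
    constructor
    · rintro ⟨i, hi, rfl⟩
      obtain ⟨-, x, hx, e⟩ := mem_idxSet.1 hi
      exact ⟨x, hx, e⟩
    · rintro ⟨x, hx, rfl⟩
      obtain ⟨i, hi, e⟩ := exists_idx hK hx
      exact ⟨i, hi, e⟩
  have h := congrArg Set.ncard e
  rw [Set.InjOn.ncard_image fun a ha b hb => el_inj (mem_idxSet.1 ha).1 (mem_idxSet.1 hb).1,
    Set.ncard_coe_finset, Set.ncard_image_of_injective _ Subtype.val_injective] at h
  rw [h, ← Nat.card_coe_set_eq, SetLike.coe_sort_coe]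

theorem count_le {S : Finset ℕ} {m : ℕ} (h : ∀ i ∈ S, i < 256 ∧ m.testBit i = true) : S.card ≤ pop 256 m := by
  rw [← card_bitSet]
  exact Finset.card_le_card fun i hi => mem_bitSet.2 (h i hi)

theorem count_pairs {S : Finset ℕ} {t : ℕ} {cs : ℕ} (hS : t ≤ S.card) (hcs : ∀ i ∈ S, i < 256 ∧ cs.testBit i = true)
    (hc : ∀ i ∈ S, ∀ j ∈ S, (cmask i).testBit j = true) :
    t ≤ (List.range 256).countP fun b => cs.testBit b && decide (t ≤ pop 256 (cs &&& cmask b)) := by
  rw [card_filter_range]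
  refine hS.trans (Finset.card_le_card fun b hb => ?_)
  rw [Finset.mem_filter, Finset.mem_range, Bool.and_eq_true, decide_eq_true_eq]
  refine ⟨(hcs b hb).1, (hcs b hb).2, hS.trans (count_le fun i hi => ⟨(hcs i hi).1, ?_⟩)⟩
  rw [Nat.testBit_and, (hcs i hi).2, hc b hb i hi]
  rfl

theorem comm_idx {K : Subgroup ↥Gam} (hc : ∀ x ∈ K, ∀ y ∈ K, x * y = y * x) :
    ∀ i ∈ idxSet K, ∀ j ∈ idxSet K, (cmask i).testBit j = true := by
  intro i hi j hj
  obtain ⟨hi, x, hx, ex⟩ := mem_idxSet.1 hi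
  obtain ⟨hj, y, hy, ey⟩ := mem_idxSet.1 hj
  refine (cmask_iff hi hj).2 ?_
  rw [← ex, ← ey]
  exact congrArg Subtype.val (hc x hx y hy)

theorem abelian_in_SY {K : Subgroup ↥Gam} (hK : K ≤ SY22) (hc : ∀ x ∈ K, ∀ y ∈ K, x * y = y * x)
    (h32 : 32 ≤ Nat.card ↥K) : K = RR22 := by
  have hle : K ≤ RR22 := fun x hx => by
    obtain ⟨a, ha, e⟩ := exists_idx hK hx
    have ha256 := (mem_idxSet.1 ha).1
    refine mem_subgroupOf.2 (mem_RR24.2 ⟨a, ha256, ?_, e⟩)
    by_contra hb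
    have hab : smallAb a = true := List.all_eq_true.1 ab_ok a (List.mem_range.2 ha256)
    simp only [smallAb, Bool.not_eq_true _ ▸ hb, Bool.false_or, Bool.or_eq_true, decide_eq_true_eq,
      popB_eq, show 8 * 32 = 256 from rfl] at hab
    have := count_pairs (t := 32) (cs := cmask a) (S := idxSet K) (by rw [card_idxSet hK]; exact h32)
      (fun i hi => ⟨(mem_idxSet.1 hi).1, comm_idx hc a ha i hi⟩) (comm_idx hc)
    have := h32.trans ((card_idxSet hK).ge.trans (count_le (m := cmask a) (S := idxSet K) fun i hi =>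
      ⟨(mem_idxSet.1 hi).1, comm_idx hc a ha i hi⟩))
    omega
  exact eq_of_le_of_card_ge hle (by rw [card_RR22]; exact h32)

theorem le_or_le {A : Type*} [Group A] {K P Q : Subgroup A} (h : ∀ x ∈ K, x ∈ P ∨ x ∈ Q) : K ≤ P ∨ K ≤ Q := by
  by_contra hne
  rw [not_or, SetLike.not_le_iff_exists, SetLike.not_le_iff_exists] at hne
  obtain ⟨⟨a, ha, haP⟩, b, hb, hbQ⟩ := hne
  rcases h _ (mul_mem ha hb) with hab | hab
  · exact haP (by simpa using mul_mem hab (inv_mem ((h b hb).resolve_right hbQ)))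
  · exact hbQ (by simpa using mul_mem (inv_mem ((h a ha).resolve_left haP)) hab)

theorem ea_in_SY {K : Subgroup ↥Gam} (hK : K ≤ SY22) (hJ : K ≤ J22) (hea : Cfsg.IsElementaryAbelian 2 K)
    (h16 : 16 ≤ Nat.card ↥K) : K = I22 ∨ K = R22 := by
  have hc : ∀ x ∈ K, ∀ y ∈ K, x * y = y * x := fun x hx y hy =>
    congrArg Subtype.val (hea.1.is_comm.comm ⟨x, hx⟩ ⟨y, hy⟩)
  have hbit : ∀ i ∈ idxSet K, mInv.testBit i = true := by
    intro i hi
    obtain ⟨hi, x, hx, e⟩ := mem_idxSet.1 hi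
    obtain ⟨hp, -, -, hb, -⟩ := el_data hi
    rw [hb, Bool.and_eq_true, beq_iff_eq]
    refine ⟨(none_fix hp).1 ?_, sqCode_of hp ?_⟩
    · rw [← e]; exact mem_J22.1 (hJ hx)
    · rw [← e, ← coe_mul, ← pow_two, hea.2 x hx, coe_one]
  have hcases : ∀ x ∈ K, x ∈ I22 ∨ x ∈ R22 := by
    intro x hx
    obtain ⟨a, ha, e⟩ := exists_idx hK hx
    have ha256 := (mem_idxSet.1 ha).1
    have h := List.all_eq_true.1 ea_ok a (List.mem_range.2 ha256)
    simp only [smallEA, hbit a ha, Bool.not_true, Bool.false_or, Bool.or_eq_true, decide_eq_true_eq] at h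
    rcases h with h | h
    · rw [Nat.testBit_or, Bool.or_eq_true] at h
      rcases h with h | h
      · exact Or.inl (mem_subgroupOf.2 (mem_I24.2 ⟨a, ha256, h, e⟩))
      · exact Or.inr (mem_subgroupOf.2 (mem_R24.2 ⟨a, ha256, h, e⟩))
    · exfalso
      have := count_pairs (t := 16) (cs := cmask a &&& mInv) (S := idxSet K) (by rw [card_idxSet hK]; exact h16)
        (fun i hi => ⟨(mem_idxSet.1 hi).1, by rw [Nat.testBit_and, comm_idx hc a ha i hi, hbit i hi]; rfl⟩)
        (comm_idx hc)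
      omega
  rcases le_or_le hcases with h | h
  · exact Or.inl (eq_of_le_of_card_ge h (by rw [card_I22]; exact h16))
  · exact Or.inr (eq_of_le_of_card_ge h (by rw [card_R22]; exact h16))

theorem not_conj_R {g : ↥Gam} : ¬ IsConjugateBy g I22 R22 := by
  intro h
  have hsub : (g : Equiv.Perm GolayPt) • O8 ⊆ pts (commonFix mR) := by
    intro p hp
    obtain ⟨q, hq, rfl⟩ := Finset.mem_smul_finset.1 hp
    have hfix : ∀ i < 256, mR.testBit i = true → permOf (el i) ((g : Equiv.Perm GolayPt) q) =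
        (g : Equiv.Perm GolayPt) q := by
      intro i hi hb
      have hR : (⟨permOf (el i), (el_data hi).2.2.1⟩ : ↥Gam) ∈ R22 := mem_subgroupOf.2 (mem_R24.2 ⟨i, hi, hb, rfl⟩)
      have := (mem_ptwise.1 (mem_subgroupOf.1 ((h _).1 hR))).2 q hq
      rw [coe_mul, coe_mul, coe_inv, Equiv.Perm.mul_apply, Equiv.Perm.mul_apply, Equiv.Perm.inv_eq_iff_eq] at this
      exact this
    rw [Equiv.Perm.smul_def, mem_pts, commonFix, testBit_maskFn, decide_eq_true (ptIdx_lt _), Bool.true_and,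
      List.all_eq_true]
    intro i hi
    rw [List.mem_range] at hi
    by_cases hb : mR.testBit i = true
    · rw [hb, Bool.not_true, Bool.false_or, beq_iff_eq, ← fix_iff (el_data hi).1 (ptIdx_lt _), idxPt_ptIdx]
      exact hfix i hi hb
    · simp [hb]
  have := Finset.card_le_card hsub
  rw [Finset.card_smul_finset, O8, card_pts, card_pts, octad_ok.2.1, pop_ok.2.2.2.2] at this
  omega

theorem isPGroup_of_ea {K : Subgroup ↥Gam} (h : Cfsg.IsElementaryAbelian 2 K) : IsPGroup 2 ↥K :=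
  fun x => ⟨1, Subtype.ext (by simpa using h.2 x x.2)⟩

theorem ea_of_conj {K L : Subgroup ↥Gam} {g : ↥Gam} (h : IsConjugateBy g K L)
    (hK : Cfsg.IsElementaryAbelian 2 K) : Cfsg.IsElementaryAbelian 2 L := by
  refine ea_of (fun x hx y hy => ?_) fun x hx => ?_
  · have := congrArg Subtype.val (hK.1.is_comm.comm ⟨_, (h x).1 hx⟩ ⟨_, (h y).1 hy⟩)
    simp only [coe_mul, mul_assoc, mul_inv_cancel_left, mul_right_inj] at this
    exact mul_right_cancel (b := g) (by simpa [mul_assoc] using this)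
  · have := hK.2 _ ((h x).1 hx)
    rw [pow_two, show g⁻¹ * x * g * (g⁻¹ * x * g) = g⁻¹ * (x * x) * g by group, mul_eq_one_iff_eq_inv,
      inv_mul_eq_iff_eq_mul, mul_inv_cancel] at this
    exact this

theorem ea_cases22 (K : Subgroup ↥Gam) (hJ : K ≤ J22) (hea : Cfsg.IsElementaryAbelian 2 K)
    (h16 : 16 ≤ Nat.card ↥K) : ∃ g ∈ J22, IsConjugateBy g I22 K ∨ IsConjugateBy g R22 K := by
  obtain ⟨g, hg⟩ := exists_conj_le (isPGroup_of_ea hea)
  have hc := isConjugateBy_map g K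
  haveI := J22.normal_of_index_eq_two J22_index
  rcases ea_in_SY (K := K.map (MulAut.conj g).toMonoidHom) (by rintro _ ⟨x, hx, rfl⟩; exact hg x hx)
      (by rintro _ ⟨x, hx, rfl⟩; exact Subgroup.Normal.conj_mem inferInstance x (hJ hx) g)
      (ea_of_conj hc hea) (by rw [hc.card_eq]; exact h16) with e | e <;> rw [e] at hc
  · obtain ⟨k, hk, h⟩ := exists_inner_I hc.symm'
    exact ⟨k, hk, Or.inl h⟩
  · obtain ⟨k, hk, h⟩ := exists_inner_R hc.symm'
    exact ⟨k, hk, Or.inr h⟩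

theorem I_unique22 (T : Subgroup ↥Gam) (hT : IsPGroup 2 ↥T) (K L : Subgroup ↥Gam) (hKT : K ≤ T) (hLT : L ≤ T)
    (hK : ∃ g ∈ J22, IsConjugateBy g I22 K) (hL : ∃ g ∈ J22, IsConjugateBy g I22 L) : K = L := by
  obtain ⟨t, ht⟩ := exists_conj_le hT
  haveI := J22.normal_of_index_eq_two J22_index
  have key : ∀ M : Subgroup ↥Gam, M ≤ T → (∃ g ∈ J22, IsConjugateBy g I22 M) →
      M.map (MulAut.conj t).toMonoidHom = I22 := by
    rintro M hM ⟨g, hgJ, h⟩
    have hc := h.trans (isConjugateBy_map t M)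
    have hMJ : M.map (MulAut.conj t).toMonoidHom ≤ J22 := fun x hx => by
      have := Subgroup.Normal.conj_mem inferInstance _ (I22_le ((hc x).1 hx)) (t * g)
      simpa [mul_assoc] using this
    rcases ea_in_SY (K := M.map (MulAut.conj t).toMonoidHom) (by rintro _ ⟨x, hx, rfl⟩; exact ht x (hM hx)) hMJ
      (ea_of_conj hc I22_ea) (by rw [hc.card_eq, card_I22]) with e | e
    · exact e
    · exact absurd (e ▸ hc) not_conj_R
  exact Subgroup.map_injective (f := (MulAut.conj t).toMonoidHom) (MulAut.conj t).injective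
    ((key K hKT hK).trans (key L hLT hL).symm)

theorem big_abelian22 (K : Subgroup ↥Gam) (hK : IsPGroup 2 ↥K) (hc : ∀ x ∈ K, ∀ y ∈ K, x * y = y * x)
    (h32 : 32 ≤ Nat.card ↥K) :
    Nat.card ↥K = 32 ∧ (∀ x ∈ K, x * x = 1) ∧ ∃ g ∈ J22, IsConjugateBy g R22 (K ⊓ J22) := by
  obtain ⟨g, hg⟩ := exists_conj_le hK
  have h := isConjugateBy_map g K
  have e : K.map (MulAut.conj g).toMonoidHom = RR22 := by
    refine abelian_in_SY (by rintro _ ⟨x, hx, rfl⟩; exact hg x hx) ?_ (by rw [h.card_eq]; exact h32)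
    rintro _ ⟨x, hx, rfl⟩ _ ⟨y, hy, rfl⟩
    rw [← map_mul, ← map_mul, hc x hx y hy]
  rw [e] at h
  refine ⟨by rw [← h.card_eq, card_RR22], fun x hx => ?_, ?_⟩
  · have := RR22_sq (h.mem_conj hx)
    rw [show g * x * g⁻¹ * (g * x * g⁻¹) = g * (x * x) * g⁻¹ by group, mul_inv_eq_one, mul_eq_left] at this
    exact this
  · haveI := J22.normal_of_index_eq_two J22_index
    refine exists_inner_R (g := g⁻¹) fun x => ?_
    rw [← RR22_inf, mem_inf, mem_inf]
    refine and_congr (h.symm' x) ⟨fun hx => ?_, fun hx => ?_⟩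
    · have := Subgroup.Normal.conj_mem inferInstance x hx g
      simpa [mul_assoc] using this
    · have := Subgroup.Normal.conj_mem inferInstance _ hx g⁻¹
      simpa [mul_assoc] using this

theorem invol_I22 (x : ↥Gam) (hx : x ∈ J22) (h2 : orderOf x = 2) : ∃ g ∈ J22, g * x * g⁻¹ ∈ I22 := by
  haveI : Fact (Nat.Prime 2) := ⟨Nat.prime_two⟩
  haveI := J22.normal_of_index_eq_two J22_index
  obtain ⟨g, hg⟩ := exists_conj_le (K := zpowers x) (IsPGroup.of_card (n := 1) (by rw [Nat.card_zpowers, h2, pow_one]))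
  have hy := hg x (mem_zpowers x)
  suffices H : ∃ k : ↥Gam, k * x * k⁻¹ ∈ I22 by
    obtain ⟨k, hk⟩ := H
    by_cases hkJ : k ∈ J22
    · exact ⟨k, hkJ, hk⟩
    · refine ⟨outerI * k, (mul_mem_iff_of_index_two J22_index).2
        (iff_of_false (outer_notMem (show outI < 256 by decide) outer_ok.1) hkJ), ?_⟩
      have := (normalizes_I22 (x := outerI)
        (keepsO_smul (el_data (show outI < 256 by decide)).1 outer_ok.2.1)).mem_conj hk
      simpa [mul_assoc] using this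
  obtain ⟨i, hi, e⟩ := mem_SY.1 (mem_subgroupOf.1 hy)
  obtain ⟨hp, -, -, hb, -⟩ := el_data hi
  have hxx : x * x = 1 := by rw [← pow_two, ← h2, pow_orderOf_eq_one]
  have hinv : mInv.testBit i = true := by
    rw [hb, Bool.and_eq_true, beq_iff_eq]
    refine ⟨(none_fix hp).1 ?_, sqCode_of hp ?_⟩
    · rw [e]; exact mem_J22.1 (Subgroup.Normal.conj_mem inferInstance x hx g)
    · rw [e, ← coe_mul, show g * x * g⁻¹ * (g * x * g⁻¹) = g * (x * x) * g⁻¹ by group, hxx, mul_one, mul_inv_cancel,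
        coe_one]
  have h := List.all_eq_true.1 conv_ok i (List.mem_range.2 hi)
  simp only [convRow, hinv, Bool.not_true, Bool.false_or, Bool.or_eq_true, List.any_eq_true, Bool.and_eq_true] at h
  rcases h with h | ⟨q, -, -, hq, hinto⟩
  · exact ⟨g, mem_subgroupOf.2 (mem_I24.2 ⟨i, hi, h, e⟩)⟩
  · obtain ⟨hqp, -, -, hqG⟩ := m22_data hq
    refine ⟨⟨permOf q.2, hqG⟩ * g, mem_subgroupOf.2 (mem_ptwise.2 ⟨(mem_Gam.1 (_ : ↥Gam).2).1, fun p hp' => ?_⟩)⟩
    simp only [coe_mul, coe_inv, mul_inv_rev, mul_assoc, Equiv.Perm.mul_apply]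
    set r := (permOf q.2)⁻¹ p
    have hr : permOf q.2 r = p := by simp [r]
    have hfix : permOf (el i) r = r := by
      rw [← idxPt_ptIdx r]
      refine (fix_iff hp (ptIdx_lt r)).2 ?_
      simp only [intoI, List.all_eq_true, List.mem_range, Bool.or_eq_true, Bool.not_eq_true', beq_iff_eq] at hinto
      refine (hinto _ (ptIdx_lt r)).resolve_left fun hf => ?_
      rw [permFn_eq_ptIdx hqp (ptIdx_lt r), idxPt_ptIdx, hr, mem_pts.1 hp'] at hf
      exact Bool.noConfusion hf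
    rw [e] at hfix
    simp only [coe_mul, coe_inv, Equiv.Perm.mul_apply] at hfix
    rw [hfix, hr]

theorem I_trans22 (x : ↥Gam) (hx : x ∈ I22) (y : ↥Gam) (hy : y ∈ I22) (hx1 : x ≠ 1) (hy1 : y ≠ 1) :
    ∃ g ∈ J22, IsConjugateBy g I22 I22 ∧ g * x * g⁻¹ = y := by
  obtain ⟨hb0, hrows⟩ := trans_ok
  have hb256 : baseI < 256 := by decide
  have base : ∀ y ∈ I22, y ≠ 1 → ∃ g ∈ J22, IsConjugateBy g I22 I22 ∧
      (g : Equiv.Perm GolayPt) * permOf (el baseI) * (g : Equiv.Perm GolayPt)⁻¹ = y := by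
    intro y hy hy1
    obtain ⟨i, hi, hb, e⟩ := mem_I24.1 (mem_subgroupOf.1 hy)
    have h := List.all_eq_true.1 hrows i (List.mem_range.2 hi)
    simp only [transRow, hb, Bool.not_true, Bool.false_or, Bool.or_eq_true, beq_iff_eq, List.any_eq_true,
      Bool.and_eq_true] at h
    rcases h with h | ⟨c, -, htw, hc, hk⟩
    · refine absurd (Subtype.ext ?_) hy1
      rw [← e, h, show el 0 = idPacked by decide +kernel, permOf_idPacked, coe_one]
    · obtain ⟨hcp, -, hc22, hcG⟩ := m22_data hc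
      exact ⟨⟨_, hcG⟩, mem_subgroupOf.2 hc22, normalizes_I22 (keepsO_smul hcp hk),
        (conj_eq_of_twine hcp (el_data hb256).1 (el_data hi).1 htw).trans e⟩
  obtain ⟨g, hg, hgI, eg⟩ := base x hx hx1
  obtain ⟨k, hk, hkI, ek⟩ := base y hy hy1
  refine ⟨k * g⁻¹, mul_mem hk (inv_mem hg), hgI.symm'.trans hkI, Subtype.ext ?_⟩
  rw [coe_mul, coe_mul, coe_mul, coe_inv, coe_inv, ← ek, ← eg, coe_mul, coe_inv]
  group

end CfsgLib.Spor.JFourType
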