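import Cfsg.Agent.Lib.Spor.JFourType.Facts22.Checks
import Cfsg.Agent.Lib.Spor.SylowSevenData

/-!
# Data and checks for the elements of order five and seven of the pair stabilizer
-/

set_option autoImplicit false
set_option maxRecDepth 20000

namespace CfsgLib.Spor.JFourType

open Cfsg

/-- An element carrying the first subgroup to one normalized by `fiveR`. -/
def fiveJ : ℕ := 0xbc6547a1ab6112e3986a2d433b0a00

/-- The corresponding element of order five normalizing the first subgroup. -/
def fiveRI : ℕ := 0xbb4d49b9682925178d4910596854e0

/-- An outer involution commuting with `fiveR`. -/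
def fiveO : ℕ := 0x4dafb3967a4aa58a5438118640457

/-- An element conjugating `fiveI` to `fiveR`. -/
def fiveK : ℕ := 0xbc84e5d825399546bea39c18822620

/-- An element inducing a transposition on the five sets. -/
def fiveT : ℕ := 0xbb66f30d84a4a058a92ea9d7640440

/-- The five octads through the fixed points of the second subgroup. -/
def fiveOcts : List ℕ := [9471495, 9748745, 11575377, 9607201, 14254209]

/-- The fixed points of the second subgroup. -/
def fourPts : ℕ := 2 ^ 0 + 2 ^ 15 + 2 ^ 20 + 2 ^ 23

/-- An outer involution commuting with `sevenElt`. -/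
def sevenO : ℕ := 0x4133a31d63c5b259aa87a8a418837

/-- An element squaring `sevenElt`. -/
def sevenN : ℕ := 0xbd0e654ab37248c441e28d8a36ac20

/-- The translates of three members of the first subgroup. -/
def jA : ℕ := 0xb913494de28b9ac2a2aa38d7634020

/-- The second translate. -/
def jB : ℕ := 0xbc91425a11139ac1a555394d35bc20

/-- The third translate. -/
def jC : ℕ := 0xb961419915539ac23c513cacb9a420

/-- The first translate, conjugated by `fiveO`. -/
def oA : ℕ := 0xbbaab349907d951a34640cca8488e0

/-- The third translate, conjugated by `fiveO`. -/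
def oC : ℕ := 0xba2a9648d0790f3186966c4ae58940

/-- Their product of order seven. -/
def fiveW : ℕ := 0xba6cd7b96c80c2aa1cb340a44ac4c0

theorem five_base : inM22 fiveJ = true ∧ inM22 fiveRI = true ∧ keepsO fiveRI = true ∧
    twine fiveJ fiveRI fiveR = true ∧ inM22 fiveK = true ∧ twine fiveK fiveI fiveR = true ∧
    isM24Code fiveO = true ∧ permFn fiveO 23 = 0 ∧ permFn fiveO 0 = 23 ∧ sqCode fiveO = true ∧
    commCodes fiveO fiveR = true ∧ inM22 fiveT = true ∧ normR fiveT = true := by decide +kernel

/-- The moved element. -/
theorem five_move : mI.testBit 17 = true ∧ mR.testBit 1 = true ∧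
    ((List.range 256).all fun b => !(mR.testBit b) || !(twine jA (el 1) (el b))) = true := by decide +kernel

/-- The word. -/
theorem five_word : mI.testBit 36 = true ∧ mI.testBit 107 = true ∧ isPermCode fiveJ = true ∧
    isPermCode jA = true ∧ isPermCode jB = true ∧ isPermCode jC = true ∧ isPermCode oA = true ∧
    isPermCode oC = true ∧ isPermCode fiveW = true ∧
    twine fiveJ (el 17) jA = true ∧ twine fiveJ (el 36) jB = true ∧ twine fiveJ (el 107) jC = true ∧
    twine fiveO jA oA = true ∧ twine fiveO jC oC = true ∧
    ((List.range 24).all fun q => permFn fiveW q == permFn jA (permFn oA (permFn jB (permFn oC q)))) = true := by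
  decide +kernel

theorem five_word_pow : powCode fiveW 7 = idPacked ∧ powCode fiveW 1 ≠ idPacked := by decide +kernel

/-- The octads. -/
theorem octs_ok : fiveOcts.all (fun m => codeTest m && (pop 24 m == 8) && (m &&& fourPts == fourPts)) = true ∧
    fiveOcts.Nodup ∧ pop 24 fourPts = 4 ∧ (List.range 24).all (fun p => fourPts.testBit p ||
      fiveOcts.any fun m => m.testBit p) = true ∧
    (List.range 24).all (fun p => fourPts.testBit p ==
      (List.range 256).all fun i => !(mR.testBit i) || (permFn (el i) p == p)) = true ∧
    fiveOcts.map (permMask fiveR) = [9748745, 11575377, 14254209, 9471495, 9607201] ∧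
    fiveOcts.map (permMask fiveT) = [9471495, 9748745, 14254209, 9607201, 11575377] ∧
    ((List.range 256).all fun i => !(mR.testBit i) || (fiveOcts.map (permMask (el i)) == fiveOcts)) = true := by
  decide +kernel

/-- Base images possible for an element fixing each of the five octads. -/
def okKer (l : List ℕ) : Bool :=
  (!(Nat.ble 1 l.length) || (l.getD 0 0 == 23)) && ((!(Nat.ble 2 l.length) || (l.getD 1 0 == 0)) &&
    fiveOcts.all fun m => (List.range l.length).all fun i =>
      (m.testBit (basePts.getD i 0) == m.testBit (l.getD i 0)))

/-- The elements fixing each of the five octads. -/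
def kerList : List ℕ := (chainCands okKer 7).filter fun c => fiveOcts.map (permMask c) == fiveOcts

theorem ker_ok : (kerList.all fun c => (List.range 256).any fun i =>
    mR.testBit i && (permMulCode idPacked c == el i)) = true := by decide +kernel

/-- Related base points of `sevenElt`. -/
def sevenPairs22 : List (ℕ × ℕ × ℕ) := [(1, 0, 0), (1, 1, 1), (1, 2, 2), (1, 3, 4), (1, 4, 5), (1, 5, 6),
  (2, 3, 5), (2, 4, 6), (3, 3, 6), (4, 6, 3)]

theorem seven_base : inM22 sevenElt = true ∧ inM22 sevenN = true ∧ twine sevenN sevenElt (powCode sevenElt 2) = true ∧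
    isM24Code sevenO = true ∧ permFn sevenO 23 = 0 ∧ permFn sevenO 0 = 23 ∧ sqCode sevenO = true ∧
    commCodes sevenO sevenElt = true := by decide +kernel

theorem cent7_ok : (centList sevenPairs22 sevenElt).length = 7 ∧ cleanList (centList sevenPairs22 sevenElt) = true ∧
    pairsCheck sevenPairs22 sevenElt = true := by decide +kernel

end CfsgLib.Spor.JFourType
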