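import Cfsg.Agent.Lib.Spor.JFourType.Facts22
import Cfsg.Agent.Lib.Spor.JFourType.Facts22.FiveSevenData
import Cfsg.Agent.Lib.Spor.JFourType.FiveSevenInterface
import Cfsg.Agent.Lib.Spor.JFourType.FiveAct
import Cfsg.Agent.Lib.Spor.SylowSeven

/-!
# The facts on elements of order five and seven of the pair stabilizer
-/

set_option autoImplicit false
set_option linter.style.haveILetI false

namespace CfsgLib.Spor.JFourType

open Cfsg Subgroup MulAction
open scoped Pointwise

/-- A member of the group outside the simple subgroup given by a code. -/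
theorem outer_code {c : ℕ} (hM : isM24Code c = true) (h23 : permFn c 23 = 0) (h0 : permFn c 0 = 23) :
    isPermCode c = true ∧ permOf c ∈ Gam ∧ permOf c none ≠ none := by
  obtain ⟨hc, hm⟩ := m24_sound hM
  have e1 : permOf c none = some 0 := by
    rw [show (none : GolayPt) = idxPt 23 from rfl, permOf_idxPt hc (by norm_num), h23]; rfl
  have e2 : permOf c (some 0) = none := by
    rw [OuterAut.zero_eq, permOf_idxPt hc (by norm_num), h0]; rfl
  exact ⟨hc, mem_Gam.2 ⟨hm, Or.inr ⟨e1, e2⟩⟩, by rw [e1]; exact Option.some_ne_none _⟩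

/-- A centralizer with an outer element is twice its inner part. -/
theorem card_centralizer_double {a o : ↥Gam} (ho : o ∉ J22) (hc : o * a = a * o) :
    Nat.card ↥(centralizer ({a} : Set ↥Gam)) = 2 * Nat.card ↥(centralizer ({a} : Set ↥Gam) ⊓ J22) := by
  set C := centralizer ({a} : Set ↥Gam) with hC
  have hidx : (J22.subgroupOf C).index = 2 := by
    have hle : (J22.subgroupOf C).index ≤ 2 := by
      rw [← J22_index]; exact Nat.le_of_dvd (by rw [J22_index]; norm_num) (Subgroup.relIndex_dvd_index_of_normal J22 C)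
    have hne : (J22.subgroupOf C).index ≠ 1 := fun h => ho (by
      rw [Subgroup.index_eq_one] at h
      exact (show (⟨o, mem_centralizer_singleton_iff.2 hc⟩ : ↥C) ∈ J22.subgroupOf C from h ▸ mem_top _))
    have := (J22.subgroupOf C).index_ne_zero_of_finite
    omega
  have h := (J22.subgroupOf C).card_mul_index
  rw [hidx, ← Subgroup.inf_subgroupOf_left, Nat.card_congr (subgroupOfEquivOfLe inf_le_left).toEquiv] at h
  rw [← h, mul_comm]

/-- The five elements data. -/
theorem five22 : ∃ r ∈ J22, ∃ n ∈ J22, ∃ o : ↥Gam, ∃ j ∈ J22, orderOf r = 5 ∧ n * r * n⁻¹ = r ^ 2 ∧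
    r ∈ normalizer (R22 : Set ↥Gam) ∧ n ∈ normalizer (R22 : Set ↥Gam) ∧
    j⁻¹ * r * j ∈ normalizer (I22 : Set ↥Gam) ∧ o ∉ J22 ∧ o * o = 1 ∧ o * r = r * o ∧
    Nat.card ↥(centralizer ({r} : Set ↥Gam)) = 10 ∧
    Nat.card ↥(normalizer (zpowers r : Set ↥Gam) ⊓ J22) = 20 ∧
    (∃ i ∈ I22, j * i * j⁻¹ ∉ normalizer (R22 : Set ↥Gam)) ∧
    ∃ w ∈ closure ((fun i => j * i * j⁻¹) '' (I22 : Set ↥Gam) ∪ (fun i => o * (j * i * j⁻¹) * o⁻¹) '' (I22 : Set ↥Gam)),
      orderOf w = 7 := by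
  obtain ⟨hI', -, h5I, h1I, hr', hn', kr, kn, h5, h1, htn⟩ := five_ok
  obtain ⟨hJ', hRI', kRI, tJ, hK', tK, hOM, hO23, hO0, hOsq, hOr, -, -⟩ := five_base
  have hr := m22_sound hr'
  have hn := m22_sound hn'
  have hI := m22_sound hI'
  have hJ := m22_sound hJ'
  have hRI := m22_sound hRI'
  have hK := m22_sound hK'
  obtain ⟨hOc, hOG, hOne⟩ := outer_code hOM hO23 hO0
  set r := gm hr with hrdef
  set n := gm hn with hndef
  set o : ↥Gam := ⟨permOf fiveO, hOG⟩ with hodef
  set j := gm hJ with hjdef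
  have ho : o ∉ J22 := fun h => hOne (mem_J22.1 h)
  have hro : orderOf r = 5 := orderOf_gm (by norm_num) hr h5 h1
  have hoo : o * o = 1 := Subtype.ext (sq_of_sqCode hOc hOsq)
  have hor : o * r = r * o := Subtype.ext (eq_mul_of_commCodes hOc hr.1 hOr)
  have hnr : n * r * n⁻¹ = r ^ 2 := conj_gm_eq hn hr (permOf_powCode hr.1 2).2 (by
    rw [SubgroupClass.coe_pow, (permOf_powCode hr.1 2).1]; rfl) htn
  have hcJ : Nat.card ↥(centralizer ({r} : Set ↥Gam) ⊓ J22) = 5 := by
    have hkr : gm hK * gm hI * (gm hK)⁻¹ = r := conj_gm_eq hK hI hr.1 rfl tK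
    have hmap : centralizer ({r} : Set ↥Gam) ⊓ J22 =
        (centralizer ({gm hI} : Set ↥Gam) ⊓ J22).map (MulAut.conj (gm hK)).toMonoidHom := by
      ext x
      rw [Subgroup.mem_map]
      constructor
      · intro hx
        obtain ⟨h1, h2⟩ := mem_inf.1 hx
        refine ⟨(gm hK)⁻¹ * x * gm hK, mem_inf.2 ⟨mem_centralizer_singleton_iff.2 ?_,
          mul_mem (mul_mem (inv_mem (gm_mem hK)) h2) (gm_mem hK)⟩, by simp [mul_assoc]⟩
        have := mem_centralizer_singleton_iff.1 h1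
        rw [← hkr] at this
        calc (gm hK)⁻¹ * x * gm hK * gm hI = (gm hK)⁻¹ * (x * (gm hK * gm hI * (gm hK)⁻¹)) * gm hK := by group
          _ = (gm hK)⁻¹ * (gm hK * gm hI * (gm hK)⁻¹ * x) * gm hK := by rw [this]
          _ = _ := by group
      · rintro ⟨y, hy, rfl⟩
        obtain ⟨h1, h2⟩ := mem_inf.1 hy
        refine mem_inf.2 ⟨mem_centralizer_singleton_iff.2 ?_, mul_mem (mul_mem (gm_mem hK) h2) (inv_mem (gm_mem hK))⟩
        show gm hK * y * (gm hK)⁻¹ * r = r * (gm hK * y * (gm hK)⁻¹)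
        rw [← hkr]
        calc gm hK * y * (gm hK)⁻¹ * (gm hK * gm hI * (gm hK)⁻¹) = gm hK * (y * gm hI) * (gm hK)⁻¹ := by group
          _ = gm hK * (gm hI * y) * (gm hK)⁻¹ := by rw [mem_centralizer_singleton_iff.1 h1]
          _ = _ := by group
    rw [hmap, ← Nat.card_congr (equivMapOfInjective _ _ (MulAut.conj (gm hK)).injective).toEquiv,
      card_centralizer hI cent5_ok.2.1 cent5_ok.2.2, cent5_ok.1]
  have hr1 : r ≠ 1 := fun h => by rw [h, orderOf_one] at hro; omega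
  have h20 : Nat.card ↥(normalizer (zpowers r : Set ↥Gam) ⊓ J22) = 20 := by
    rw [card_eq_orbit_mul (K := normalizer (zpowers r : Set ↥Gam) ⊓ J22) (a := r)
      (S := (zpowers r : Set ↥Gam) \ {1})]
    · have hinf : normalizer (zpowers r : Set ↥Gam) ⊓ J22 ⊓ centralizer ({r} : Set ↥Gam) =
          centralizer ({r} : Set ↥Gam) ⊓ J22 := by
        refine le_antisymm (le_inf inf_le_right (inf_le_left.trans inf_le_right)) fun x hx => ?_
        obtain ⟨h1, h2⟩ := mem_inf.1 hx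
        exact mem_inf.2 ⟨mem_inf.2 ⟨(CfsgLib.Spor.mem_normalizer_zpowers r x).2 (by
          rw [mem_centralizer_singleton_iff.1 h1, mul_inv_cancel_right]; exact mem_zpowers r), h2⟩, h1⟩
      rw [hinf, hcJ, Set.ncard_sdiff (Set.singleton_subset_iff.2 (one_mem _)) (Set.toFinite _), Set.ncard_singleton,
        show (zpowers r : Set ↥Gam).ncard = Nat.card ↥(zpowers r) from rfl, Nat.card_zpowers, hro]
    · exact fun k hk => ⟨(CfsgLib.Spor.mem_normalizer_zpowers r k).1 (mem_inf.1 hk).1,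
        fun h => hr1 (conj_eq_one_iff.1 h)⟩
    · rintro b ⟨hb, hb1⟩
      obtain ⟨i, hi⟩ := mem_powers_iff_mem_zpowers.2 hb
      have hi' : r ^ i = b := hi
      have hpow : ∀ m : ℕ, n ^ m * r * (n ^ m)⁻¹ = r ^ 2 ^ m := by
        intro m
        induction m with
        | zero => simp
        | succ k ih =>
          calc n ^ (k + 1) * r * (n ^ (k + 1))⁻¹ = n * (n ^ k * r * (n ^ k)⁻¹) * n⁻¹ := by rw [pow_succ']; group
            _ = (n * r * n⁻¹) ^ 2 ^ k := by rw [ih, conj_pow]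
            _ = _ := by rw [hnr, ← pow_mul, pow_succ' 2 k]
      obtain ⟨m, hm⟩ : ∃ m : ℕ, 2 ^ m % 5 = i % 5 := by
        have h5' : i % 5 ≠ 0 := fun h => hb1 (by
          rw [← hi', ← Nat.mod_add_div i 5, h, zero_add, pow_mul, ← hro, pow_orderOf_eq_one, one_pow]; rfl)
        have hlt : i % 5 < 5 := Nat.mod_lt _ (by norm_num)
        revert h5' hlt
        generalize i % 5 = q
        intro h5' hlt
        interval_cases q
        exacts [absurd rfl h5', ⟨0, rfl⟩, ⟨1, rfl⟩, ⟨3, rfl⟩, ⟨2, rfl⟩]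
      refine ⟨n ^ m, mem_inf.2 ⟨(CfsgLib.Spor.mem_normalizer_zpowers r _).2 (by
        rw [hpow]; exact npow_mem_zpowers r _), pow_mem (gm_mem hn) m⟩, ?_⟩
      rw [hpow, ← hi', pow_eq_pow_iff_modEq, hro]
      exact hm
  obtain ⟨h17, h1R, hmove⟩ := five_move
  obtain ⟨h36, h107, -, cA, cB, cC, cOA, cOC, cW, tA', tB', tC', toA, toC, hWeq⟩ := five_word
  have hmemI : ∀ i < 256, mI.testBit i = true → ∃ y ∈ I22, (y : Equiv.Perm GolayPt) = permOf (el i) :=
    fun i hi hb => ⟨⟨permOf (el i), (el_data hi).2.2.1⟩, mem_subgroupOf.2 (mem_I24.2 ⟨i, hi, hb, rfl⟩), rfl⟩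
  obtain ⟨a, ha, hae⟩ := hmemI 17 (by norm_num) h17
  obtain ⟨b, hb, hbe⟩ := hmemI 36 (by norm_num) h36
  obtain ⟨d, hd, hde⟩ := hmemI 107 (by norm_num) h107
  have hja : ((j * a * j⁻¹ : ↥Gam) : Equiv.Perm GolayPt) = permOf jA := by
    rw [coe_mul, coe_mul, coe_inv, hae]; exact conj_eq_of_twine hJ.1 (el_data (by norm_num)).1 cA tA'
  have hjb : ((j * b * j⁻¹ : ↥Gam) : Equiv.Perm GolayPt) = permOf jB := by
    rw [coe_mul, coe_mul, coe_inv, hbe]; exact conj_eq_of_twine hJ.1 (el_data (by norm_num)).1 cB tB'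
  have hjd : ((j * d * j⁻¹ : ↥Gam) : Equiv.Perm GolayPt) = permOf jC := by
    rw [coe_mul, coe_mul, coe_inv, hde]; exact conj_eq_of_twine hJ.1 (el_data (by norm_num)).1 cC tC'
  refine ⟨r, gm_mem hr, n, gm_mem hn, o, j, gm_mem hJ, hro, hnr,
    isConjugateBy_self_iff.1 (normalizes_gm_R hr kr), isConjugateBy_self_iff.1 (normalizes_gm_R hn kn), ?_,
    ho, hoo, hor, by rw [card_centralizer_double ho hor, hcJ], h20, ⟨a, ha, fun hN => ?_⟩, ?_⟩
  · have e : j * gm hRI * j⁻¹ = r := conj_gm_eq hJ hRI hr.1 rfl tJ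
    rw [← e, show j⁻¹ * (j * gm hRI * j⁻¹) * j = gm hRI by group]
    exact isConjugateBy_self_iff.1 (normalizes_gm_I hRI kRI)
  · let y : ↥Gam := ⟨permOf (el 1), (el_data (by norm_num)).2.2.1⟩
    have hy : y ∈ R22 := mem_subgroupOf.2 (mem_R24.2 ⟨1, by norm_num, h1R, rfl⟩)
    obtain ⟨k, hk, hkb, hke⟩ := mem_R24.1 (mem_subgroupOf.1 ((mem_normalizer_iff.1 hN y).1 hy))
    have hm := List.all_eq_true.1 hmove k (List.mem_range.2 hk)
    rw [hkb] at hm
    simp only [Bool.not_true, Bool.false_or, Bool.not_eq_true'] at hm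
    refine Bool.eq_false_iff.1 hm (twine_of cA (el_data (by norm_num)).1 (el_data hk).1 ?_)
    rw [hke, ← hja, show permOf (el 1) = (y : Equiv.Perm GolayPt) from rfl]
    simp only [coe_mul, coe_inv]
    group
  · have cmul : ∀ x y : ↥Gam, ((x * y : ↥Gam) : Equiv.Perm GolayPt) = x * y := fun _ _ => rfl
    refine ⟨(j * a * j⁻¹) * (o * (j * a * j⁻¹) * o⁻¹) * (j * b * j⁻¹) * (o * (j * d * j⁻¹) * o⁻¹), ?_, ?_⟩
    · refine mul_mem (mul_mem (mul_mem ?_ ?_) ?_) ?_ <;> refine subset_closure ?_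
      exacts [Or.inl ⟨a, ha, rfl⟩, Or.inr ⟨a, ha, rfl⟩, Or.inl ⟨b, hb, rfl⟩, Or.inr ⟨d, hd, rfl⟩]
    · have eA : ((o * (j * a * j⁻¹) * o⁻¹ : ↥Gam) : Equiv.Perm GolayPt) = permOf oA := by
        rw [cmul, cmul o, coe_inv, hja]; exact conj_eq_of_twine hOc cA cOA toA
      have eC : ((o * (j * d * j⁻¹) * o⁻¹ : ↥Gam) : Equiv.Perm GolayPt) = permOf oC := by
        rw [cmul, cmul o, coe_inv, hjd]; exact conj_eq_of_twine hOc cC cOC toC
      have hprod : permOf jA * permOf oA * permOf jB * permOf oC = permOf fiveW := by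
        refine Equiv.ext fun p => ?_
        simp only [List.all_eq_true, List.mem_range, beq_iff_eq] at hWeq
        have hp := ptIdx_lt p
        rw [← idxPt_ptIdx p, Equiv.Perm.mul_apply, Equiv.Perm.mul_apply, Equiv.Perm.mul_apply,
          permOf_idxPt cOC hp, permOf_idxPt cB (permFn_lt cOC hp), permOf_idxPt cOA (permFn_lt cB (permFn_lt cOC hp)),
          permOf_idxPt cA (permFn_lt cOA (permFn_lt cB (permFn_lt cOC hp))), permOf_idxPt cW hp, hWeq _ hp]
      haveI : Fact (Nat.Prime 7) := ⟨by norm_num⟩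
      set w := (j * a * j⁻¹) * (o * (j * a * j⁻¹) * o⁻¹) * (j * b * j⁻¹) * (o * (j * d * j⁻¹) * o⁻¹) with hw
      have hwe : (w : Equiv.Perm GolayPt) = permOf fiveW := by
        rw [hw, cmul _ (o * (j * d * j⁻¹) * o⁻¹), cmul _ (j * b * j⁻¹), cmul _ (o * (j * a * j⁻¹) * o⁻¹),
          eC, hjb, eA, hja, hprod]
      refine orderOf_eq_prime (Subtype.ext ?_) fun e => ne_one_of_code cW five_word_pow.2 ?_
      · rw [SubgroupClass.coe_pow, hwe, coe_one, ← (permOf_powCode cW 7).1, five_word_pow.1, permOf_idPacked]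
      · rw [← hwe, e, coe_one]

/-- One of the five octads. -/
def oct5 (k : Fin 5) : Finset GolayPt := pts (fiveOcts.getD k.1 0)

theorem octs_data (k : Fin 5) : fiveOcts.getD k.1 0 ∈ fiveOcts ∧ oct5 k ∈ octads ∧ pts fourPts ⊆ oct5 k ∧
    (oct5 k).card = 8 := by
  have hm : fiveOcts.getD k.1 0 ∈ fiveOcts := by
    rw [List.getD_eq_getElem _ _ (show k.1 < fiveOcts.length from k.2)]; exact List.getElem_mem _
  have h := List.all_eq_true.1 octs_ok.1 _ hm
  simp only [Bool.and_eq_true, beq_iff_eq] at h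
  obtain ⟨⟨h1, h2⟩, h3⟩ := h
  refine ⟨hm, OuterAut.pts_octad h1 h2, fun p hp => ?_, by rw [oct5, card_pts, h2]⟩
  rw [mem_pts] at hp
  rw [← h3, Nat.testBit_and, Bool.and_eq_true] at hp
  rw [oct5, mem_pts]
  exact hp.1

theorem octs_lt : fiveOcts.all (fun m => decide (m < 2 ^ 24)) = true := by decide +kernel

theorem oct5_injective : Function.Injective oct5 := fun k l h => by
  have hlt : ∀ q : Fin 5, fiveOcts.getD q.1 0 < 2 ^ 24 := fun q =>
    of_decide_eq_true (List.all_eq_true.1 octs_lt _ (octs_data q).1)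
  have e := eq_of_pts_eq (hlt k) (hlt l) h
  rw [List.getD_eq_getElem _ _ (show k.1 < fiveOcts.length from k.2),
    List.getD_eq_getElem _ _ (show l.1 < fiveOcts.length from l.2)] at e
  exact Fin.ext ((List.Nodup.getElem_inj_iff octs_ok.2.1).1 e)

/-- The fixed points of the second subgroup. -/
theorem mem_fourPts {p : GolayPt} : p ∈ pts fourPts ↔ ∀ g ∈ R24, g p = p := by
  have h := List.all_eq_true.1 octs_ok.2.2.2.2.1 (ptIdx p) (List.mem_range.2 (ptIdx_lt p))
  rw [beq_iff_eq] at h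
  rw [mem_pts, h]
  simp only [List.all_eq_true, List.mem_range, Bool.or_eq_true, Bool.not_eq_true', beq_iff_eq]
  constructor
  · intro hh g hg
    obtain ⟨i, hi, hb, rfl⟩ := mem_R24.1 hg
    have := (hh i hi).resolve_left (by rw [hb]; simp)
    rw [← idxPt_ptIdx p, permOf_idxPt (el_data hi).1 (ptIdx_lt p), this]
  · intro hh i hi
    by_cases hb : mR.testBit i = true
    · right
      have := hh _ (mem_R24.2 ⟨i, hi, hb, rfl⟩)
      rw [← idxPt_ptIdx p, permOf_idxPt (el_data hi).1 (ptIdx_lt p)] at this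
      simpa [ptIdx_idxPt _ (permFn_lt (el_data hi).1 (ptIdx_lt p)), ptIdx_idxPt _ (ptIdx_lt p)] using
        congrArg ptIdx this
    · left; simpa using hb

theorem smul_octs {g : ↥Gam} (hg : g ∈ normalizer (R22 : Set ↥Gam)) (k : Fin 5) :
    ∃ l : Fin 5, (g : Equiv.Perm GolayPt) • oct5 k = oct5 l := by
  have hM : (g : Equiv.Perm GolayPt) ∈ M24 := (mem_Gam.1 g.2).1
  have hfour : (g : Equiv.Perm GolayPt) • pts fourPts = pts fourPts := by
    refine Finset.eq_of_subset_of_card_le ?_ (le_of_eq (Finset.card_smul_finset _ _).symm)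
    intro q hq
    rw [← Finset.image_smul, Finset.mem_image] at hq
    obtain ⟨p, hp, rfl⟩ := hq
    rw [mem_fourPts] at hp ⊢
    intro y hy
    let y' : ↥Gam := ⟨y, M22_le (mem_inf.1 (show y ∈ RR24 ⊓ Spor.M22 from hy)).2⟩
    have h1 : g⁻¹ * y' * g ∈ R22 := (mem_normalizer_iff''.1 hg y').1 (mem_subgroupOf.2 hy)
    have h2 := hp _ (mem_subgroupOf.1 h1)
    rw [coe_mul, coe_mul, coe_inv, Equiv.Perm.mul_apply, Equiv.Perm.mul_apply, Equiv.Perm.inv_eq_iff_eq] at h2
    exact h2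
  obtain ⟨-, hoct, hsub, hc8⟩ := octs_data k
  have hoct' : (g : Equiv.Perm GolayPt) • oct5 k ∈ octads := smul_mem_octads hM hoct
  have hsub' : pts fourPts ⊆ (g : Equiv.Perm GolayPt) • oct5 k := by
    rw [← hfour]; exact Finset.smul_finset_subset_smul_finset hsub
  have hc4 : (pts fourPts).card = 4 := by rw [card_pts]; exact octs_ok.2.2.1
  obtain ⟨p, hp, hpn⟩ : ∃ p ∈ (g : Equiv.Perm GolayPt) • oct5 k, p ∉ pts fourPts := by
    by_contra hcon
    push Not at hcon
    have := Finset.card_le_card hcon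
    rw [Finset.card_smul_finset, hc8, hc4] at this
    omega
  have hcov := List.all_eq_true.1 octs_ok.2.2.2.1 (ptIdx p) (List.mem_range.2 (ptIdx_lt p))
  rw [Bool.or_eq_true, List.any_eq_true] at hcov
  obtain ⟨m, hm, hmb⟩ := hcov.resolve_left (fun h => hpn (mem_pts.2 h))
  obtain ⟨l, hl, rfl⟩ := List.getElem_of_mem hm
  refine ⟨⟨l, hl⟩, octad_eq_of_five hoct' (octs_data ⟨l, hl⟩).2.1 ?_⟩
  have hins : insert p (pts fourPts) ⊆ ((g : Equiv.Perm GolayPt) • oct5 k) ∩ oct5 ⟨l, hl⟩ := by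
    intro q hq
    rcases Finset.mem_insert.1 hq with rfl | hq
    · refine Finset.mem_inter.2 ⟨hp, ?_⟩
      rw [oct5, mem_pts, List.getD_eq_getElem _ _ hl]; exact hmb
    · exact Finset.mem_inter.2 ⟨hsub' hq, (octs_data ⟨l, hl⟩).2.2.1 hq⟩
  have := Finset.card_le_card hins
  rw [Finset.card_insert_of_notMem hpn, hc4] at this
  omega

/-- The action on the five octads. -/
theorem R_quot22 : ∃ f : ↥(normalizer (R22 : Set ↥Gam) ⊓ J22) →* Equiv.Perm (Fin 5),
    Function.Surjective f ∧ f.ker = R22.subgroupOf (normalizer (R22 : Set ↥Gam) ⊓ J22) := by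
  classical
  set N := normalizer (R22 : Set ↥Gam) ⊓ J22 with hN
  have hex : ∀ (g : ↥N) (k : Fin 5), ∃ l : Fin 5, ((g : ↥Gam) : Equiv.Perm GolayPt) • oct5 k = oct5 l :=
    fun g k => smul_octs (mem_inf.1 g.2).1 k
  choose σ hσ using hex
  have hσinj : ∀ g, Function.Injective (σ g) := fun g k l h => oct5_injective
    (smul_left_cancel _ ((hσ g k).trans ((congrArg oct5 h).trans (hσ g l).symm)))
  let f : ↥N →* Equiv.Perm (Fin 5) :=
    { toFun := fun g => Equiv.ofBijective (σ g) ((Finite.injective_iff_bijective).1 (hσinj g))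
      map_one' := Equiv.ext fun k => oct5_injective (by
        show oct5 (σ 1 k) = oct5 k
        rw [← hσ 1 k, coe_one, coe_one, one_smul])
      map_mul' := fun g h => Equiv.ext fun k => oct5_injective (by
        show oct5 (σ (g * h) k) = oct5 (σ g (σ h k))
        rw [← hσ g, ← hσ h, ← hσ (g * h), coe_mul, coe_mul, mul_smul]) }
  have hf : ∀ g k, oct5 (f g k) = ((g : ↥Gam) : Equiv.Perm GolayPt) • oct5 k := fun g k => (hσ g k).symm
  -- values of permutations given by codes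
  have hval : ∀ {c : ℕ} (hc : CodeIn22 c) (hcR : normR c = true) (l : List ℕ) (p : Equiv.Perm (Fin 5)),
      fiveOcts.map (permMask c) = l → (∀ k : Fin 5, l.getD k.1 0 = fiveOcts.getD (p k).1 0) →
      ∃ g : ↥N, f g = p := by
    intro c hc hcR l p hl hp
    refine ⟨⟨gm hc, mem_inf.2 ⟨isConjugateBy_self_iff.1 (normalizes_gm_R hc hcR), gm_mem hc⟩⟩,
      Equiv.ext fun k => oct5_injective ?_⟩
    rw [hf]
    show permOf c • oct5 k = oct5 (p k)
    rw [oct5, smul_pts hc.1, oct5, ← hp k, ← hl]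
    have hk : k.1 < fiveOcts.length := k.2
    rw [List.getD_eq_getElem (fiveOcts.map _) _ (by simpa using hk), List.getElem_map, List.getD_eq_getElem _ _ hk]
  obtain ⟨hI', -, -, -, hr', -, kr, -, -, -, -⟩ := five_ok
  obtain ⟨-, -, -, -, -, -, -, -, -, -, -, hT', kT⟩ := five_base
  let σ5 : Equiv.Perm (Fin 5) :=
    ⟨![1, 2, 4, 0, 3], ![3, 0, 1, 4, 2], by decide, by decide⟩
  obtain ⟨g5, hg5⟩ := hval (m22_sound hr') kr _ σ5 octs_ok.2.2.2.2.2.1 (by decide +kernel)
  obtain ⟨g2, hg2⟩ := hval (m22_sound hT') kT _ (Equiv.swap (2 : Fin 5) 4) octs_ok.2.2.2.2.2.2.1 (by decide +kernel)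
  refine ⟨f, ?_, ?_⟩
  · rw [← MonoidHom.range_eq_top, eq_top_iff,
      ← Equiv.Perm.closure_prime_cycle_swap (σ := σ5) (τ := Equiv.swap (2 : Fin 5) 4) (by norm_num)
        ?_ (by decide) ⟨2, 4, by decide, rfl⟩, closure_le]
    · rintro p (rfl | rfl)
      exacts [⟨g5, hg5⟩, ⟨g2, hg2⟩]
    · refine ⟨0, by decide, fun y _ => ?_⟩
      have : ∀ y : Fin 5, ∃ i : Fin 5, (σ5 ^ i.1) 0 = y := by decide
      obtain ⟨i, hi⟩ := this y
      exact ⟨i.1, by rw [zpow_natCast]; exact hi⟩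
  · ext g
    rw [MonoidHom.mem_ker, mem_subgroupOf]
    constructor
    · intro hg
      have hfix : ∀ k, ((g : ↥Gam) : Equiv.Perm GolayPt) • oct5 k = oct5 k := fun k => by
        rw [← hf, hg]; rfl
      have hgJ := (mem_inf.1 g.2).2
      obtain ⟨hM, hn0, h00⟩ := OuterAut.mem_M22.1 (mem_subgroupOf.1 hgJ)
      set γ := ((g : ↥Gam) : Equiv.Perm GolayPt) with hγ
      have hmask : ∀ m ∈ fiveOcts, γ • pts m = pts m := fun m hm => by
        obtain ⟨l, hl, rfl⟩ := List.getElem_of_mem hm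
        have := hfix ⟨l, hl⟩
        rwa [oct5, List.getD_eq_getElem _ _ hl] at this
      obtain ⟨c, hc, hce⟩ := exists_cand okKer hM fun n hn7 _ => by
        have get : ∀ i < n, (imgsOf γ n).getD i 0 = ptIdx (γ (bpt i)) := fun i hi => by
          rw [imgsOf, List.getD_eq_getElem _ _ (by simpa using hi), List.getElem_map, List.getElem_range]
        simp only [okKer, List.all_eq_true, Bool.and_eq_true, Bool.or_eq_true, Bool.not_eq_true', beq_iff_eq,
          ← Bool.not_eq_true, Nat.ble_eq, show (imgsOf γ n).length = n by simp [imgsOf], List.mem_range]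
        refine ⟨?_, ?_, fun m hm i hi => ?_⟩
        · by_cases h : 1 ≤ n
          · right
            rw [get 0 h, show bpt 0 = (none : GolayPt) from by decide +kernel, hn0]
            decide +kernel
          · exact Or.inl h
        · by_cases h : 2 ≤ n
          · right
            rw [get 1 h, show bpt 1 = (some 0 : GolayPt) from by decide +kernel, h00]
            decide +kernel
          · exact Or.inl h
        · rw [get i hi]
          have e1 : bpt i ∈ pts m ↔ γ (bpt i) ∈ pts m := by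
            conv_rhs => rw [← hmask m hm]
            rw [← Equiv.Perm.smul_def, Finset.smul_mem_smul_finset_iff]
          rw [mem_pts, mem_pts, bpt, ptIdx_idxPt _ (basePts_lt i (by omega))] at e1
          exact Bool.eq_iff_iff.2 e1
      have hcp := isPermCode_chainCands okKer 7 c hc
      have hck : c ∈ kerList := by
        refine List.mem_filter.2 ⟨hc, ?_⟩
        rw [beq_iff_eq]
        conv_rhs => rw [← List.map_id fiveOcts]
        refine List.map_congr_left fun m hm => ?_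
        refine eq_of_pts_eq (permMask_lt hcp m) (of_decide_eq_true (List.all_eq_true.1 octs_lt m hm)) ?_
        rw [← smul_pts hcp, hce]
        exact hmask m hm
      have hk := List.all_eq_true.1 ker_ok c hck
      simp only [List.any_eq_true, List.mem_range, Bool.and_eq_true, beq_iff_eq] at hk
      obtain ⟨i, hi, hb, he⟩ := hk
      refine mem_subgroupOf.2 (mem_R24.2 ⟨i, hi, hb, ?_⟩)
      rw [← he, ← permOf_permMulCode (by decide +kernel) hcp (by rw [he]; exact (el_data hi).1) rfl, permOf_idPacked,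
        one_mul, hce]
    · intro hg
      obtain ⟨i, hi, hb, he⟩ := mem_R24.1 (mem_subgroupOf.1 hg)
      refine Equiv.ext fun k => oct5_injective ?_
      rw [hf, ← he, oct5, smul_pts (el_data hi).1, Equiv.Perm.one_apply]
      have h := List.all_eq_true.1 octs_ok.2.2.2.2.2.2.2 i (List.mem_range.2 hi)
      rw [hb] at h
      simp only [Bool.not_true, Bool.false_or, beq_iff_eq] at h
      have hk : k.1 < fiveOcts.length := k.2
      have h2 := congrArg (fun L : List ℕ => L.getD k.1 0) h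
      rw [List.getD_eq_getElem (fiveOcts.map _) _ (by simpa using hk), List.getElem_map,
        ← List.getD_eq_getElem _ 0 hk] at h2
      rw [h2]; rfl

/-- In `M24` an element of order seven squared by a conjugation is carried only to its powers `1, 2, 4`, as
the normalizer of order 126 has a centralizer of order 42. -/
theorem conj_mem_three {x n k : Equiv.Perm GolayPt} (hx : x ∈ M24) (hn : n ∈ M24) (hk : k ∈ M24)
    (ho : orderOf x = 7) (hnx : n * x * n⁻¹ = x ^ 2) (hkx : k * x * k⁻¹ ∈ zpowers x) :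
    k * x * k⁻¹ = x ∨ k * x * k⁻¹ = x ^ 2 ∨ k * x * k⁻¹ = x ^ 4 := by
  set a : ↥M24 := ⟨x, hx⟩ with ha
  set m : ↥M24 := ⟨n, hn⟩ with hm
  set b : ↥M24 := ⟨k, hk⟩ with hb
  have hao : orderOf a = 7 := by rw [← Subgroup.orderOf_coe]; exact ho
  obtain ⟨hN, hC, -, -⟩ := CfsgLib.Spor.sylow_seven (zpowers a) (by rw [Nat.card_zpowers, hao])
  rw [zpowers_eq_closure, centralizer_closure] at hC
  have hma : m * a * m⁻¹ = a ^ 2 := Subtype.ext hnx
  have hmN : m ∈ normalizer (zpowers a : Set ↥M24) :=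
    (CfsgLib.Spor.mem_normalizer_zpowers a m).2 (by rw [hma]; exact npow_mem_zpowers a 2)
  have hbN : b ∈ normalizer (zpowers a : Set ↥M24) := by
    obtain ⟨i, hi⟩ := mem_zpowers_iff.1 hkx
    exact (CfsgLib.Spor.mem_normalizer_zpowers a b).2
      (mem_zpowers_iff.2 ⟨i, Subtype.ext (by rw [SubgroupClass.coe_zpow]; exact hi)⟩)
  set S : Set ↥M24 := {y | ∃ j ∈ normalizer (zpowers a : Set ↥M24), j * a * j⁻¹ = y} with hS
  have hcard := card_eq_orbit_mul (K := normalizer (zpowers a : Set ↥M24)) (a := a) (S := S)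
    (fun j hj => ⟨j, hj, rfl⟩) (fun y hy => hy)
  have hle : centralizer ({a} : Set ↥M24) ≤ normalizer (zpowers a : Set ↥M24) := fun y hy =>
    (CfsgLib.Spor.mem_normalizer_zpowers a y).2 (by
      rw [mem_centralizer_singleton_iff.1 hy, mul_inv_cancel_right]; exact mem_zpowers a)
  rw [inf_eq_right.2 hle, hN, hC] at hcard
  have hne : ∀ i j : ℕ, i < 7 → j < 7 → i ≠ j → a ^ i ≠ a ^ j := fun i j hi hj hij h => hij
    (pow_injOn_Iio_orderOf (Set.mem_Iio.2 (by rw [hao]; exact hi)) (Set.mem_Iio.2 (by rw [hao]; exact hj)) h)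
  have e1 : a ≠ a ^ 2 := by simpa using hne 1 2 (by norm_num) (by norm_num) (by norm_num)
  have e2 : a ≠ a ^ 4 := by simpa using hne 1 4 (by norm_num) (by norm_num) (by norm_num)
  have heq : ({a, a ^ 2, a ^ 4} : Set ↥M24) = S := by
    refine Set.eq_of_subset_of_ncard_le ?_ ?_ (Set.toFinite _)
    · rintro y (rfl | rfl | rfl)
      · exact ⟨1, one_mem _, by group⟩
      · exact ⟨m, hmN, hma⟩
      · refine ⟨m * m, mul_mem hmN hmN, ?_⟩
        rw [show m * m * a * (m * m)⁻¹ = m * (m * a * m⁻¹) * m⁻¹ by group, hma, ← conj_pow, hma, ← pow_mul]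
    · rw [Set.ncard_insert_of_notMem (by simp [e1, e2]) (Set.toFinite _),
        Set.ncard_pair (hne 2 4 (by norm_num) (by norm_num) (by norm_num))]
      omega
  have hmem : b * a * b⁻¹ ∈ ({a, a ^ 2, a ^ 4} : Set ↥M24) := heq ▸ ⟨b, hbN, rfl⟩
  rcases hmem with h | h | h
  · exact Or.inl (congrArg Subtype.val h)
  · exact Or.inr (Or.inl (by simpa using congrArg Subtype.val h))
  · exact Or.inr (Or.inr (by simpa using congrArg Subtype.val h))

/-- The seven elements data. -/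
theorem seven22 : ∃ g ∈ J22, orderOf g = 7 ∧ Nat.card ↥(centralizer ({g} : Set ↥Gam) ⊓ J22) = 7 ∧
    Nat.card ↥(centralizer ({g} : Set ↥Gam)) = 14 ∧ Nat.card ↥(normalizer (zpowers g : Set ↥Gam)) = 42 := by
  obtain ⟨hg', hn', htn, hOM, h23, h0, hsq, hcomm⟩ := seven_base
  have hg := m22_sound hg'
  have hn := m22_sound hn'
  obtain ⟨hOc, hOG, hOne⟩ := outer_code hOM h23 h0
  set g := gm hg with hgdef
  set o : ↥Gam := ⟨permOf sevenO, hOG⟩
  have ho : o ∉ J22 := fun h => hOne (mem_J22.1 h)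
  have hgo : orderOf g = 7 := orderOf_gm (by norm_num) hg sevenElt_facts.2.1 sevenElt_facts.2.2.1
  have hog : o * g = g * o := Subtype.ext (eq_mul_of_commCodes hOc hg.1 hcomm)
  have h7 : Nat.card ↥(centralizer ({g} : Set ↥Gam) ⊓ J22) = 7 := by
    rw [card_centralizer hg cent7_ok.2.1 cent7_ok.2.2, cent7_ok.1]
  have h14 : Nat.card ↥(centralizer ({g} : Set ↥Gam)) = 14 := by rw [card_centralizer_double ho hog, h7]
  refine ⟨g, gm_mem hg, hgo, h7, h14, ?_⟩
  have hnx : gm hn * g * (gm hn)⁻¹ = g ^ 2 := conj_gm_eq hn hg (permOf_powCode hg.1 2).2 (by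
    rw [SubgroupClass.coe_pow, (permOf_powCode hg.1 2).1]; rfl) htn
  rw [card_eq_orbit_mul (K := normalizer (zpowers g : Set ↥Gam)) (a := g) (S := {g, g ^ 2, g ^ 4})]
  · have hinf : normalizer (zpowers g : Set ↥Gam) ⊓ centralizer ({g} : Set ↥Gam) =
        centralizer ({g} : Set ↥Gam) := inf_eq_right.2 fun x hx => (CfsgLib.Spor.mem_normalizer_zpowers g x).2 (by
          rw [mem_centralizer_singleton_iff.1 hx, mul_inv_cancel_right]; exact mem_zpowers g)
    have hne : ∀ a b : ℕ, a < 7 → b < 7 → a ≠ b → g ^ a ≠ g ^ b := fun a b ha hb hab h => hab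
      (pow_injOn_Iio_orderOf (Set.mem_Iio.2 (by rw [hgo]; exact ha)) (Set.mem_Iio.2 (by rw [hgo]; exact hb)) h)
    have e1 : g ≠ g ^ 2 := by simpa using hne 1 2 (by norm_num) (by norm_num) (by norm_num)
    have e2 : g ≠ g ^ 4 := by simpa using hne 1 4 (by norm_num) (by norm_num) (by norm_num)
    rw [hinf, h14, Set.ncard_insert_of_notMem (by simp [e1, e2]) (Set.toFinite _),
      Set.ncard_pair (hne 2 4 (by norm_num) (by norm_num) (by norm_num))]
  · intro k hk
    have hk' := (CfsgLib.Spor.mem_normalizer_zpowers g k).1 hk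
    have hkp : (k : Equiv.Perm GolayPt) * permOf sevenElt * (k : Equiv.Perm GolayPt)⁻¹ ∈
        zpowers (permOf sevenElt) := by
      obtain ⟨i, hi⟩ := mem_zpowers_iff.1 hk'
      exact mem_zpowers_iff.2 ⟨i, congrArg Subtype.val hi⟩
    have hgM : (g : Equiv.Perm GolayPt) ∈ M24 := (mem_Gam.1 g.2).1
    have hnM : ((gm hn : ↥Gam) : Equiv.Perm GolayPt) ∈ M24 := (mem_Gam.1 (gm hn).2).1
    have hnv : ((gm hn : ↥Gam) : Equiv.Perm GolayPt) * (g : Equiv.Perm GolayPt) *
        ((gm hn : ↥Gam) : Equiv.Perm GolayPt)⁻¹ = (g : Equiv.Perm GolayPt) ^ 2 := congrArg Subtype.val hnx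
    rcases conj_mem_three hgM hnM (mem_Gam.1 k.2).1 (by rw [Subgroup.orderOf_coe, hgo]) hnv hkp with h | h | h
    · exact Or.inl (Subtype.ext h)
    · exact Or.inr (Or.inl (Subtype.ext (by rw [SubgroupClass.coe_pow]; exact h)))
    · exact Or.inr (Or.inr (Subtype.ext (by rw [SubgroupClass.coe_pow]; exact h)))
  · have hnN : gm hn ∈ normalizer (zpowers g : Set ↥Gam) :=
      (CfsgLib.Spor.mem_normalizer_zpowers g _).2 (by rw [hnx]; exact npow_mem_zpowers g 2)
    rintro b (rfl | rfl | rfl)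
    · exact ⟨1, one_mem _, by group⟩
    · exact ⟨_, hnN, hnx⟩
    · refine ⟨gm hn * gm hn, mul_mem hnN hnN, ?_⟩
      rw [show gm hn * gm hn * g * (gm hn * gm hn)⁻¹ = gm hn * (gm hn * g * (gm hn)⁻¹) * (gm hn)⁻¹ by group, hnx,
        ← conj_pow, hnx, ← pow_mul]

/-- The facts. -/
theorem fiveSeven22 : FiveSeven J22 I22 R22 := ⟨five22, R_quot22, seven22⟩

end CfsgLib.Spor.JFourType
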