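import Cfsg.Agent.Lib.Spor.JFourType.Facts22.Elementary

/-!
# The elements of order three and five and their centralizers
-/

set_option autoImplicit false

namespace CfsgLib.Spor.JFourType

open Cfsg Subgroup MulAction

theorem conj_self_of_le {A : Type*} [Group A] [Finite A] {g : A} {K : Subgroup A}
    (h : ∀ x ∈ K, g * x * g⁻¹ ∈ K) : IsConjugateBy g K K := by
  have e : K.map (MulAut.conj g).toMonoidHom = K := by
    refine eq_of_le_of_card_ge ?_ (le_of_eq (isConjugateBy_map g K).card_eq.symm)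
    rintro _ ⟨x, hx, rfl⟩
    exact h x hx
  have := isConjugateBy_map g K
  rwa [e] at this

theorem conj_self_closure {A : Type*} [Group A] [Finite A] {g : A} {S : Set A}
    (h : ∀ x ∈ S, g * x * g⁻¹ ∈ closure S) : IsConjugateBy g (closure S) (closure S) :=
  conj_self_of_le fun x hx =>
    have hle : closure S ≤ (closure S).comap (MulAut.conj g).toMonoidHom := (closure_le _).2 fun y hy => h y hy
    hle hx

theorem mem_closure_three {A : Type*} [Group A] {a b v : A} (hc : Commute a b) (ha : a ^ 3 = 1) (hb : b ^ 3 = 1)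
    (hv : v ∈ closure ({a, b} : Set A)) : ∃ e ∈ threeExps, v = a ^ e.1 * b ^ e.2 := by
  have red : ∀ i j : ℕ, ∃ e ∈ threeExps, a ^ i * b ^ j = a ^ e.1 * b ^ e.2 := fun i j => by
    have hmem : ∀ p < 3, ∀ q < 3, (p, q) ∈ threeExps := by decide
    exact ⟨(i % 3, j % 3), hmem _ (Nat.mod_lt _ (by norm_num)) _ (Nat.mod_lt _ (by norm_num)),
      by rw [← pow_eq_pow_mod i ha, ← pow_eq_pow_mod j hb]⟩
  refine closure_induction (p := fun x _ => ∃ e ∈ threeExps, x = a ^ e.1 * b ^ e.2) ?_ ?_ ?_ ?_ hv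
  · rintro x (rfl | rfl)
    · simpa using red 1 0
    · simpa using red 0 1
  · simpa using red 0 0
  · rintro x y - - ⟨e, -, rfl⟩ ⟨f, -, rfl⟩
    obtain ⟨k, hk, hk'⟩ := red (e.1 + f.1) (e.2 + f.2)
    refine ⟨k, hk, ?_⟩
    rw [← hk', mul_assoc, ← mul_assoc (b ^ e.2), ← ((hc.pow_pow f.1 e.2).eq), mul_assoc, ← mul_assoc, ← pow_add,
      ← pow_add]
  · rintro x - ⟨e, -, rfl⟩
    obtain ⟨k, hk, hk'⟩ := red (e.1 * 2) (e.2 * 2)
    refine ⟨k, hk, ?_⟩
    rw [← hk', inv_eq_iff_mul_eq_one, pow_mul, pow_mul, ← (hc.pow_pow e.1 e.2).mul_pow,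
      show (a ^ e.1 * b ^ e.2) * (a ^ e.1 * b ^ e.2) ^ 2 = (a ^ e.1 * b ^ e.2) ^ 3 by rw [← pow_succ'],
      (hc.pow_pow e.1 e.2).mul_pow, ← pow_mul, ← pow_mul, mul_comm e.1, mul_comm e.2, pow_mul, pow_mul, ha, hb,
      one_pow, one_pow, one_mul]

/-- A code of a member of the simple subgroup. -/
abbrev CodeIn22 (c : ℕ) : Prop := isPermCode c = true ∧ permOf c ∈ Spor.M22

/-- A member of the simple subgroup given by a code. -/
noncomputable def gm {c : ℕ} (h : CodeIn22 c) : ↥Gam := ⟨permOf c, (M22_le h.2)⟩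

theorem gm_mem {c : ℕ} (h : CodeIn22 c) : gm h ∈ J22 := mem_subgroupOf.2 h.2

theorem twine_of {c x y : ℕ} (hc : isPermCode c = true) (hx : isPermCode x = true) (hy : isPermCode y = true)
    (h : permOf c * permOf x = permOf y * permOf c) : twine c x y = true := by
  simp only [twine, List.all_eq_true, List.mem_range, beq_iff_eq]
  intro q hq
  rw [permFn_eq_ptIdx hc (permFn_lt hx hq), permFn_eq_ptIdx hy (permFn_lt hc hq), ← permOf_idxPt hx hq,
    ← permOf_idxPt hc hq, ← Equiv.Perm.mul_apply, h, Equiv.Perm.mul_apply]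

theorem ne_one_of_code {c : ℕ} (hc : isPermCode c = true) (h : powCode c 1 ≠ idPacked) : permOf c ≠ 1 := fun e => by
  refine h (permOf_inj_normal (permOf_powCode hc 1).2 (by decide +kernel) (permMulCode_idPacked_powCode hc 1)
    (by decide +kernel) ?_)
  rw [(permOf_powCode hc 1).1, pow_one, e, permOf_idPacked]

theorem orderOf_gm {c p : ℕ} (hp : p.Prime) (h : CodeIn22 c) (h1 : powCode c p = idPacked)
    (h2 : powCode c 1 ≠ idPacked) : orderOf (gm h) = p := by
  haveI : Fact p.Prime := ⟨hp⟩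
  have hc := h.1
  refine orderOf_eq_prime (Subtype.ext ?_) fun e => ne_one_of_code hc h2 (congrArg Subtype.val e)
  rw [SubgroupClass.coe_pow, coe_one]
  show permOf c ^ p = 1
  rw [← (permOf_powCode hc p).1, h1, permOf_idPacked]

theorem commute_gm {c d : ℕ} (hc : CodeIn22 c) (hd : CodeIn22 d) (h : commCodes c d = true) :
    gm hc * gm hd = gm hd * gm hc :=
  Subtype.ext (eq_mul_of_commCodes hc.1 hd.1 h)

theorem threeElt_data {v : ℕ × ℕ} : isPermCode (threeElt v) = true ∧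
    permOf (threeElt v) = permOf threeA ^ v.1 * permOf threeB ^ v.2 := by
  obtain ⟨ea, ha⟩ := permOf_powCode (m22_sound three_ok.1).1 v.1
  obtain ⟨eb, hb⟩ := permOf_powCode (m22_sound three_ok.2.1).1 v.2
  refine ⟨isPermCode_permMulCode ha hb, ?_⟩
  rw [threeElt, ← permOf_permMulCode ha hb (isPermCode_permMulCode ha hb) rfl, ea, eb]

/-- The first element of order three. -/
noncomputable def tA : ↥Gam := gm (m22_sound three_ok.1)

/-- The second element of order three. -/
noncomputable def tB : ↥Gam := gm (m22_sound three_ok.2.1)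

/-- The group of order nine. -/
noncomputable def P9 : Subgroup ↥Gam := closure {tA, tB}

theorem order_tA : orderOf tA = 3 :=
  orderOf_gm Nat.prime_three _ three_ok.2.2.2.2.2.1 three_ok.2.2.2.2.2.2.2.1

theorem order_tB : orderOf tB = 3 :=
  orderOf_gm Nat.prime_three _ three_ok.2.2.2.2.2.2.1 three_ok.2.2.2.2.2.2.2.2.1

theorem comm_tAB : tA * tB = tB * tA := commute_gm _ _ three_ok.2.2.2.2.2.2.2.2.2.1

theorem mem_P9 {x : ↥Gam} (hx : x ∈ P9) :
    ∃ e ∈ threeExps, (x : Equiv.Perm GolayPt) = permOf (threeElt e) := by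
  obtain ⟨e, he, h⟩ := mem_closure_three comm_tAB
    (by rw [← order_tA, pow_orderOf_eq_one]) (by rw [← order_tB, pow_orderOf_eq_one]) hx
  refine ⟨e, he, ?_⟩
  rw [h, coe_mul, SubgroupClass.coe_pow, SubgroupClass.coe_pow, threeElt_data.2]
  rfl

theorem conj_gm_eq {c x e : ℕ} (hc : CodeIn22 c) (hx : CodeIn22 x) (he : isPermCode e = true) {y : ↥Gam}
    (hy : (y : Equiv.Perm GolayPt) = permOf e) (h : twine c x e = true) : gm hc * gm hx * (gm hc)⁻¹ = y :=
  Subtype.ext ((conj_eq_of_twine hc.1 hx.1 he h).trans hy.symm)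

theorem exp_mem_P9 (v : ℕ × ℕ) : tA ^ v.1 * tB ^ v.2 ∈ P9 :=
  mul_mem (pow_mem (subset_closure (by simp)) _) (pow_mem (subset_closure (by simp)) _)

theorem exp_coe (v : ℕ × ℕ) :
    ((tA ^ v.1 * tB ^ v.2 : ↥Gam) : Equiv.Perm GolayPt) = permOf (threeElt v) := by
  rw [coe_mul, SubgroupClass.coe_pow, SubgroupClass.coe_pow, threeElt_data.2]
  rfl

theorem normThree_elt {c : ℕ} (hc : CodeIn22 c) (h : normThree c = true) :
    IsConjugateBy (gm hc) P9 P9 := by
  simp only [normThree, Bool.and_eq_true, List.any_eq_true] at h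
  obtain ⟨⟨u, -, hu⟩, v, -, hv⟩ := h
  refine conj_self_closure fun x hx => ?_
  rcases hx with rfl | rfl
  · rw [show gm hc * tA * (gm hc)⁻¹ = _ from conj_gm_eq hc (m22_sound three_ok.1) threeElt_data.1 (exp_coe u) hu]
    exact exp_mem_P9 u
  · rw [show gm hc * tB * (gm hc)⁻¹ = _ from conj_gm_eq hc (m22_sound three_ok.2.1) threeElt_data.1 (exp_coe v) hv]
    exact exp_mem_P9 v

theorem orbit_elt {v : ↥Gam} (hv : v ∈ P9) (hv1 : v ≠ 1) : ∃ c ∈ threeOrbit, ∃ hc : CodeIn22 c,
    normThree c = true ∧ gm hc * tA * (gm hc)⁻¹ = v := by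
  obtain ⟨e, he, ev⟩ := mem_P9 hv
  have h := List.all_eq_true.1 orbit_ok e he
  simp only [orbitRow, Bool.or_eq_true, beq_iff_eq, List.any_eq_true, Bool.and_eq_true] at h
  rcases h with h | ⟨c, hcm, htw, hc, hn⟩
  · refine absurd (Subtype.ext ?_) hv1
    rw [ev, h, threeElt_data.2, pow_zero, pow_zero, one_mul, coe_one]
  · exact ⟨c, hcm, m22_sound hc, hn, conj_gm_eq (m22_sound hc) (m22_sound three_ok.1) threeElt_data.1 ev htw⟩

theorem centList_data {ps : List (ℕ × ℕ × ℕ)} {a c : ℕ} (ha : CodeIn22 a) (hc : c ∈ centList ps a) :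
    CodeIn22 c ∧ isPermCode c = true ∧ permOf c ∈ Spor.M22 ∧
      permOf c * permOf a = permOf a * permOf c := by
  obtain ⟨hcm, hcc⟩ := List.mem_filter.1 hc
  have hp := isPermCode_chainCands _ 7 c hcm
  have hM := permOf_chainCands_mem _ 7 c hcm
  have hcm' := hcm
  rw [show (7 : ℕ) = 6 + 1 from rfl, chainCands] at hcm'
  simp only [List.mem_flatMap, List.mem_filter] at hcm'
  obtain ⟨-, -, -, hok⟩ := hcm'
  simp only [okPairs, baseImgs, List.length_map, List.length_range, Bool.and_eq_true, Bool.or_eq_true,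
    Bool.not_eq_true', beq_iff_eq] at hok
  obtain ⟨h0, h1, -⟩ := hok
  have h23 : permFn c 23 = 23 := h0.resolve_left (by decide)
  have h00 : permFn c 0 = 0 := h1.resolve_left (by decide)
  have h22 : permOf c ∈ Spor.M22 := by
    refine OuterAut.mem_M22.2 ⟨hM, (none_fix hp).2 h23, ?_⟩
    rw [OuterAut.zero_eq]; exact (fix_iff hp (by norm_num)).2 h00
  exact ⟨⟨hp, h22⟩, hp, h22, eq_mul_of_commCodes hp ha.1 hcc⟩

theorem mem_centList {ps : List (ℕ × ℕ × ℕ)} {a : ℕ} (ha : CodeIn22 a) (hps : pairsCheck ps a = true)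
    {g : Equiv.Perm GolayPt} (hg : g ∈ Spor.M22) (hc : g * permOf a = permOf a * g) :
    ∃ c ∈ centList ps a, permOf c = g := by
  obtain ⟨hM, hn, h0⟩ := OuterAut.mem_M22.1 hg
  have hap := ha.1
  obtain ⟨c, hcm, rfl⟩ := exists_cand (okPairs ps a) hM fun n hn7 _ => by
    have get : ∀ i < n, (imgsOf g n).getD i 0 = ptIdx (g (bpt i)) := fun i hi => by
      rw [imgsOf, List.getD_eq_getElem _ _ (by simpa using hi), List.getElem_map, List.getElem_range]
    simp only [okPairs, List.all_eq_true, Bool.and_eq_true, Bool.or_eq_true, Bool.not_eq_true', beq_iff_eq,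
      ← Bool.not_eq_true, Nat.ble_eq, show (imgsOf g n).length = n by simp [imgsOf]]
    refine ⟨?_, ?_, fun q hq => ?_⟩
    · by_cases h : 1 ≤ n
      · right
        rw [get 0 h, show bpt 0 = (none : GolayPt) from by decide +kernel, hn]
        decide +kernel
      · exact Or.inl h
    · by_cases h : 2 ≤ n
      · right
        rw [get 1 h, show bpt 1 = (some 0 : GolayPt) from by decide +kernel, h0]
        decide +kernel
      · exact Or.inl h
    · by_cases h : q.2.1 + 1 ≤ n ∧ q.2.2 + 1 ≤ n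
      · right
        have hd := List.all_eq_true.1 hps q hq
        simp only [Bool.and_eq_true, decide_eq_true_eq, beq_iff_eq] at hd
        obtain ⟨hi7, hj7, hij⟩ := hd
        obtain ⟨epow, hpp⟩ := permOf_powCode hap q.1
        rw [get _ h.1, get _ h.2, permFn_eq_ptIdx hpp (ptIdx_lt _), idxPt_ptIdx, epow, ← Equiv.Perm.mul_apply,
          ← ((show Commute g (permOf a) from hc).pow_right q.1).eq, Equiv.Perm.mul_apply]
        congr 2
        rw [bpt, bpt, ← epow, permOf_idxPt hpp (basePts_lt _ hi7), hij]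
      · left
        simpa only [not_and_or] using h
  exact ⟨c, List.mem_filter.2 ⟨hcm, commCodes_of (isPermCode_chainCands _ 7 c hcm) hap hc⟩, rfl⟩

theorem card_of_list {H : Subgroup ↥Gam} {L : List ℕ} (hL : cleanList L = true)
    (hp : ∀ c ∈ L, isPermCode c = true) (h1 : ∀ x ∈ H, ∃ c ∈ L, permOf c = x)
    (h2 : ∀ c ∈ L, ∃ x ∈ H, (x : Equiv.Perm GolayPt) = permOf c) : Nat.card ↥H = L.length := by
  simp only [cleanList, Bool.and_eq_true, decide_eq_true_eq, List.all_eq_true, beq_iff_eq] at hL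
  have e : permOf '' (L.toFinset : Set ℕ) = Subtype.val '' (H : Set ↥Gam) := by
    ext g
    constructor
    · rintro ⟨c, hc, rfl⟩
      obtain ⟨x, hx, e⟩ := h2 c (List.mem_toFinset.1 hc)
      exact ⟨x, hx, e⟩
    · rintro ⟨x, hx, rfl⟩
      obtain ⟨c, hc, e⟩ := h1 x hx
      exact ⟨c, List.mem_toFinset.2 hc, e⟩
  have h := congrArg Set.ncard e
  rw [Set.InjOn.ncard_image fun a ha b hb => permOf_inj_normal (hp a (List.mem_toFinset.1 ha))
      (hp b (List.mem_toFinset.1 hb)) (hL.2 a (List.mem_toFinset.1 ha)) (hL.2 b (List.mem_toFinset.1 hb)),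
    Set.ncard_coe_finset, Set.ncard_image_of_injective _ Subtype.val_injective,
    List.toFinset_card_of_nodup hL.1] at h
  rw [h, ← Nat.card_coe_set_eq, SetLike.coe_sort_coe]

theorem card_centralizer {ps : List (ℕ × ℕ × ℕ)} {a : ℕ} (ha : CodeIn22 a) (hL : cleanList (centList ps a) = true)
    (hps : pairsCheck ps a = true) :
    Nat.card ↥(centralizer ({gm ha} : Set ↥Gam) ⊓ J22) = (centList ps a).length := by
  refine card_of_list hL (fun c hc => (centList_data ha hc).2.1) (fun x hx => ?_) fun c hc => ?_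
  · obtain ⟨hxc, hxJ⟩ := mem_inf.1 hx
    exact mem_centList ha hps (mem_subgroupOf.1 hxJ)
      (congrArg Subtype.val (mem_centralizer_singleton_iff.1 hxc))
  · obtain ⟨hc', -, -, hcomm⟩ := centList_data ha hc
    exact ⟨gm hc', mem_inf.2 ⟨mem_centralizer_singleton_iff.2 (Subtype.ext hcomm), gm_mem hc'⟩, rfl⟩

theorem card_normalizer_P9 : Nat.card ↥(normalizer (P9 : Set ↥Gam) ⊓ J22) = 72 := by
  obtain ⟨hlen, hclean, horb⟩ := norm_ok
  rw [← hlen]
  have horb' : ∀ c ∈ threeOrbit, CodeIn22 c ∧ normThree c = true := fun c hc => by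
    have h := List.all_eq_true.1 horb c hc
    rw [Bool.and_eq_true] at h
    exact ⟨m22_sound h.1, h.2⟩
  have code : ∀ n ∈ normList, ∃ c d, ∃ hc : CodeIn22 c, ∃ hd : CodeIn22 d,
      normThree c = true ∧ normThree d = true ∧ isPermCode n = true ∧ permOf n = permOf c * permOf d := by
    intro n hn
    simp only [normList, List.mem_flatMap, List.mem_map, List.mem_filter] at hn
    obtain ⟨c, hc, d, ⟨hd, hdn⟩, rfl⟩ := hn
    obtain ⟨hc', hcn⟩ := horb' c hc
    obtain ⟨hd', hdp, -, -⟩ := centList_data (m22_sound three_ok.1) hd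
    have hcd := isPermCode_permMulCode hc'.1 hdp
    have hid : isPermCode idPacked = true := by decide +kernel
    refine ⟨c, d, hc', hd', hcn, hdn, isPermCode_permMulCode hid hcd, ?_⟩
    rw [← permOf_permMulCode hid hcd (isPermCode_permMulCode hid hcd) rfl, permOf_idPacked, one_mul,
      ← permOf_permMulCode hc'.1 hdp hcd rfl]
  refine card_of_list hclean (fun n hn => ?_) (fun x hx => ?_) fun n hn => ?_
  · obtain ⟨c, d, hc, hd, -, -, hp, -⟩ := code n hn
    exact hp
  · obtain ⟨hxN, hxJ⟩ := mem_inf.1 hx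
    have hxP := isConjugateBy_self_iff.2 hxN
    have htA : tA ∈ P9 := subset_closure (by simp)
    obtain ⟨c, hcm, hc, hcn, ec⟩ := orbit_elt (hxP.mem_conj htA) fun e => by
      have h1 : tA = 1 := by simpa using e
      have h2 := order_tA
      rw [h1, orderOf_one] at h2
      omega
    set y := (gm hc)⁻¹ * x with hy
    have hyJ : y ∈ J22 := mul_mem (inv_mem (gm_mem hc)) hxJ
    have hyA : y * tA = tA * y := by
      calc y * tA = (gm hc)⁻¹ * (x * tA * x⁻¹) * x := by rw [hy]; group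
        _ = (gm hc)⁻¹ * (gm hc * tA * (gm hc)⁻¹) * x := by rw [ec]
        _ = tA * y := by rw [hy]; group
    obtain ⟨d, hd, ed⟩ := mem_centList (m22_sound three_ok.1) cent3_ok.2.2 (mem_subgroupOf.1 hyJ) (congrArg Subtype.val hyA)
    have hdp := (centList_data (m22_sound three_ok.1) hd).2.1
    have hdn : normThree d = true := by
      simp only [normThree, Bool.and_eq_true, List.any_eq_true]
      refine ⟨⟨(1, 0), by decide, twine_of hdp (m22_sound three_ok.1).1 threeElt_data.1 ?_⟩, ?_⟩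
      · rw [threeElt_data.2, pow_one, pow_zero, mul_one, ed]
        exact congrArg Subtype.val hyA
      · have hyP : IsConjugateBy y P9 P9 :=
          hxP.trans (normThree_elt hc hcn).symm'
        have htB : tB ∈ P9 := subset_closure (by simp)
        obtain ⟨e, he, ev⟩ := mem_P9 (hyP.mem_conj htB)
        refine ⟨e, he, twine_of hdp (m22_sound three_ok.2.1).1 threeElt_data.1 ?_⟩
        rw [← ev, ed]
        simp only [coe_mul, coe_inv, inv_mul_cancel_right]
        rfl
    refine ⟨permMulCode idPacked (permMulCode c d), ?_, ?_⟩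
    · simp only [normList, List.mem_flatMap, List.mem_map, List.mem_filter]
      exact ⟨c, hcm, d, ⟨hd, hdn⟩, rfl⟩
    · have hcd := isPermCode_permMulCode hc.1 hdp
      have hid : isPermCode idPacked = true := by decide +kernel
      rw [← permOf_permMulCode hid hcd (isPermCode_permMulCode hid hcd) rfl, permOf_idPacked, one_mul,
        ← permOf_permMulCode hc.1 hdp hcd rfl, ed, hy, coe_mul, coe_inv]
      exact mul_inv_cancel_left _ _
  · obtain ⟨c, d, hc, hd, hcn, hdn, -, e⟩ := code n hn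
    exact ⟨gm hc * gm hd, mem_inf.2 ⟨mul_mem (isConjugateBy_self_iff.1 (normThree_elt hc hcn))
      (isConjugateBy_self_iff.1 (normThree_elt hd hdn)), mul_mem (gm_mem hc) (gm_mem hd)⟩, e.symm⟩

theorem normalizes_gm_I {c : ℕ} (h : CodeIn22 c) (hk : keepsO c = true) : IsConjugateBy (gm h) I22 I22 :=
  normalizes_I22 (keepsO_smul h.1 hk)

theorem normalizes_gm_R {c : ℕ} (h : CodeIn22 c) (hk : normR c = true) : IsConjugateBy (gm h) R22 R22 := by
  refine conj_self_of_le fun x hx => ?_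
  obtain ⟨i, hi, hb, e⟩ := mem_R24.1 (mem_subgroupOf.1 hx)
  have h1 := List.all_eq_true.1 hk i (List.mem_range.2 hi)
  simp only [hb, Bool.not_true, Bool.false_or, List.any_eq_true, List.mem_range, Bool.and_eq_true] at h1
  obtain ⟨j, hj, hbj, htw⟩ := h1
  refine mem_subgroupOf.2 (mem_R24.2 ⟨j, hj, hbj, ?_⟩)
  rw [coe_mul, coe_mul, coe_inv, ← e]
  exact (conj_eq_of_twine h.1 (el_data hi).1 (el_data hj).1 htw).symm

theorem three22 : ∃ a b n : ↥Gam, a ∈ J22 ∧ b ∈ J22 ∧ n ∈ J22 ∧ IsConjugateBy a I22 I22 ∧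
    IsConjugateBy b I22 I22 ∧ orderOf a = 3 ∧ orderOf b = 3 ∧ a * b = b * a ∧ b ∉ zpowers a ∧
    n * a * n⁻¹ = b ∧ n * b * n⁻¹ = a⁻¹ ∧
    (∃ i ∈ I22, ∃ j ∈ I22, i ≠ 1 ∧ j ≠ 1 ∧ i ≠ j ∧ i * a = a * i ∧ j * a = a * j) ∧
    (∀ v ∈ closure ({a, b} : Set ↥Gam), v ≠ 1 →
      ∃ g ∈ J22, IsConjugateBy g (closure {a, b}) (closure {a, b}) ∧ g * a * g⁻¹ = v) ∧
    Nat.card ↥(centralizer ({a} : Set ↥Gam) ⊓ J22) = 36 ∧
    Nat.card ↥(normalizer ((closure {a, b} : Subgroup ↥Gam) : Set ↥Gam) ⊓ J22) = 72 := by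
  obtain ⟨hA', hB', hN', kA, kB, pA, -, -, -, -, hne, tN1, tN2⟩ := three_ok
  have hA := m22_sound hA'
  have hB := m22_sound hB'
  have hN := m22_sound hN'
  obtain ⟨f1, f2, f10, f20, f12, f1l, f2l, c1, c2⟩ := threeFix_ok
  have h0 : permOf (el 0) = 1 := by rw [show el 0 = idPacked by decide +kernel, permOf_idPacked]
  refine ⟨tA, tB, gm hN, gm_mem _, gm_mem _, gm_mem _, normalizes_gm_I _ kA, normalizes_gm_I _ kB,
    order_tA, order_tB, comm_tAB, fun hb => ?_, conj_gm_eq hN hA hB.1 rfl tN1, ?_, ?_, ?_, ?_, ?_⟩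
  · obtain ⟨i, hi, e⟩ := Finset.mem_image.1 (mem_zpowers_iff_mem_range_orderOf.1 hb)
    rw [order_tA, Finset.mem_range] at hi
    have := List.all_eq_true.1 hne i (List.mem_range.2 hi)
    rw [bne_iff_ne] at this
    refine this (permOf_inj_normal (permOf_powCode hA.1 i).2 (permOf_powCode hB.1 1).2
      (permMulCode_idPacked_powCode hA.1 i) (permMulCode_idPacked_powCode hB.1 1) ?_)
    rw [(permOf_powCode hA.1 i).1, (permOf_powCode hB.1 1).1, pow_one]
    simpa [tA, tB, gm] using congrArg Subtype.val e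
  · refine (conj_gm_eq hN hB (permOf_powCode hA.1 2).2 (y := tA ^ 2) ?_ tN2).trans ?_
    · rw [SubgroupClass.coe_pow, (permOf_powCode hA.1 2).1]; rfl
    · rw [eq_inv_iff_mul_eq_one, ← pow_succ, show 2 + 1 = orderOf tA from order_tA.symm, pow_orderOf_eq_one]
  · have hi : ∀ k, k < 256 → mI.testBit k = true → ∀ hk : permOf (el k) ∈ Gam, (⟨permOf (el k), hk⟩ : ↥Gam) ∈ I22 :=
      fun k hk hb _ => mem_subgroupOf.2 (mem_I24.2 ⟨k, hk, hb, rfl⟩)
    refine ⟨_, hi _ f1l f1 (el_data f1l).2.2.1, _, hi _ f2l f2 (el_data f2l).2.2.1, fun e => f10 ?_,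
      fun e => f20 ?_, fun e => f12 (el_inj f1l f2l (congrArg Subtype.val e)),
      Subtype.ext (eq_mul_of_commCodes (el_data f1l).1 hA.1 c1),
      Subtype.ext (eq_mul_of_commCodes (el_data f2l).1 hA.1 c2)⟩
    · exact el_inj f1l (by norm_num) ((congrArg Subtype.val e).trans h0.symm)
    · exact el_inj f2l (by norm_num) ((congrArg Subtype.val e).trans h0.symm)
  · intro v hv hv1
    obtain ⟨c, -, hc, hcn, e⟩ := orbit_elt hv hv1
    exact ⟨gm hc, gm_mem hc, normThree_elt hc hcn, e⟩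
  · exact (card_centralizer hA cent3_ok.2.1 cent3_ok.2.2).trans cent3_ok.1
  · exact card_normalizer_P9

theorem five_I22 : ∃ r ∈ J22, IsConjugateBy r I22 I22 ∧ orderOf r = 5 ∧
    Nat.card ↥(centralizer ({r} : Set ↥Gam) ⊓ J22) = 5 := by
  obtain ⟨h', hk, h5, h1, -⟩ := five_ok
  have h := m22_sound h'
  exact ⟨gm h, gm_mem h, normalizes_gm_I h hk, orderOf_gm (by norm_num) h h5 h1,
    (card_centralizer h cent5_ok.2.1 cent5_ok.2.2).trans cent5_ok.1⟩

theorem five_R22 : ∃ r ∈ J22, ∃ n ∈ J22, IsConjugateBy r R22 R22 ∧ IsConjugateBy n R22 R22 ∧ orderOf r = 5 ∧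
    n * r * n⁻¹ = r ^ 2 := by
  obtain ⟨-, -, -, -, hr', hn', kr, kn, h5, h1, ht⟩ := five_ok
  have hr := m22_sound hr'
  have hn := m22_sound hn'
  refine ⟨gm hr, gm_mem hr, gm hn, gm_mem hn, normalizes_gm_R hr kr, normalizes_gm_R hn kn,
    orderOf_gm (by norm_num) hr h5 h1, conj_gm_eq hn hr (permOf_powCode hr.1 2).2 ?_ ht⟩
  rw [SubgroupClass.coe_pow, (permOf_powCode hr.1 2).1]
  rfl

end CfsgLib.Spor.JFourType
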